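/-
Quadratic spaces over three elements: lines of one norm and their perpendicular sets.
-/
import Cfsg.Agent.Lib.ReflClass.IndexTwo

set_option autoImplicit false
set_option linter.unusedSectionVars false

namespace CfsgFischer.Refl

open QuadraticMap CfsgReflClass

abbrev K := ZMod 3

abbrev V (n : ℕ) := Fin n → K

variable {n : ℕ}

/-- Equal up to sign. -/
def PM (u v : V n) : Prop := u = v ∨ u = -v

theorem PM.rfl' (u : V n) : PM u u := Or.inl rfl

theorem PM.neg (u : V n) : PM (-u) u := Or.inr rfl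

theorem PM.symm {u v : V n} (h : PM u v) : PM v u := by
  rcases h with rfl | rfl
  exacts [Or.inl rfl, Or.inr (neg_neg v).symm]

theorem PM.trans {u v w : V n} (h : PM u v) (h' : PM v w) : PM u w := by
  rcases h with rfl | rfl <;> rcases h' with rfl | rfl
  exacts [Or.inl rfl, Or.inr rfl, Or.inr rfl, Or.inl (neg_neg w)]

theorem PM.smul {u v : V n} (h : PM u v) {s : K} (hs : s ≠ 0) : PM (s • u) v := by
  rcases (by decide : ∀ s : K, s ≠ 0 → s = 1 ∨ s = -1) s hs with rfl | rfl
  · rwa [one_smul]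
  · exact PM.trans (Or.inr (neg_one_smul K u)) h

theorem ne_zero_cases : ∀ c t : K, c ≠ 0 → t ≠ 0 → t = c ∨ t = -c := by decide

theorem three_cases : ∀ c t : K, c ≠ 0 → t = 0 ∨ t = c ∨ t = -c := by decide

theorem neg_add_self : ∀ c : K, -c + -c = c := by decide

theorem add_self_neg : ∀ c : K, c + c = -c := by decide

theorem two_mul_self : ∀ c : K, 2 * c = -c := by decide

theorem sq_one : ∀ c : K, c ≠ 0 → c * c = 1 := by decide

variable (Q : QuadraticForm K (V n))

/-- The polar form. -/
def B (u v : V n) : K := polar (⇑Q) u v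

theorem B_symm (u v : V n) : B Q u v = B Q v u := polar_comm (⇑Q) u v

theorem B_self (u : V n) : B Q u u = -Q u := by
  rw [B, polar_self_two, two_mul_self]

theorem B_add_l (u v w : V n) : B Q (u + v) w = B Q u w + B Q v w := polar_add_left (Q := Q) u v w

theorem B_add_r (u v w : V n) : B Q w (u + v) = B Q w u + B Q w v := polar_add_right (Q := Q) w u v

theorem B_smul_l (s : K) (u w : V n) : B Q (s • u) w = s * B Q u w := polar_smul_left (Q := Q) s u w

theorem B_smul_r (s : K) (u w : V n) : B Q w (s • u) = s * B Q w u := polar_smul_right (Q := Q) s w u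

theorem B_neg_l (u w : V n) : B Q (-u) w = -B Q u w := by rw [← neg_one_smul K u, B_smul_l, neg_one_mul]

theorem B_neg_r (u w : V n) : B Q w (-u) = -B Q w u := by rw [B_symm, B_neg_l, B_symm]

theorem B_sub_l (u v w : V n) : B Q (u - v) w = B Q u w - B Q v w := polar_sub_left (Q := Q) u v w

theorem B_sub_r (u v w : V n) : B Q w (u - v) = B Q w u - B Q w v := polar_sub_right (Q := Q) w u v

theorem B_zero_l (w : V n) : B Q 0 w = 0 := polar_zero_left (Q := Q) w

theorem Q_add (u v : V n) : Q (u + v) = Q u + Q v + B Q u v := QuadraticMap.map_add Q u v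

theorem Q_neg (u : V n) : Q (-u) = Q u := QuadraticMap.map_neg Q u

theorem Q_smul (s : K) (u : V n) : Q (s • u) = s * s * Q u := by
  rw [QuadraticMap.map_smul, smul_eq_mul]

theorem Q_sub (u v : V n) : Q (u - v) = Q u + Q v - B Q u v := by
  rw [sub_eq_add_neg, Q_add, Q_neg, B_neg_r, sub_eq_add_neg]

variable {Q}

theorem PM.Q_eq {u v : V n} (h : PM u v) : Q u = Q v := by
  rcases h with rfl | rfl
  exacts [rfl, Q_neg Q v]

theorem PM.B_zero {u v : V n} (h : PM u v) (w : V n) : B Q u w = 0 ↔ B Q v w = 0 := by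
  rcases h with rfl | rfl
  exacts [Iff.rfl, by rw [B_neg_l, neg_eq_zero]]

theorem B_zero_comm {u v : V n} : B Q u v = 0 ↔ B Q v u = 0 := by rw [B_symm]

/-- The reflection in a vector of norm `c`. -/
def sig (Q : QuadraticForm K (V n)) (c : K) (a x : V n) : V n := x + (-(c * B Q a x)) • a

theorem sig_fix {c : K} {a x : V n} (h : B Q a x = 0) : sig Q c a x = x := by
  rw [sig, h, mul_zero, neg_zero, zero_smul, add_zero]

theorem sig_neg (c : K) (a x : V n) : sig Q c a (-x) = -sig Q c a x := by
  simp only [sig, B_neg_r]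
  module

theorem sig_add (c : K) (a x y : V n) : sig Q c a (x + y) = sig Q c a x + sig Q c a y := by
  simp only [sig, B_add_r]
  module

theorem sig_smul (c s : K) (a x : V n) : sig Q c a (s • x) = s • sig Q c a x := by
  simp only [sig, B_smul_r]
  module

theorem sig_neg_left (c : K) (a x : V n) : sig Q c (-a) x = sig Q c a x := by
  simp only [sig, B_neg_l]
  module

theorem sig_pm_left (c : K) {a a' : V n} (h : PM a a') (x : V n) : sig Q c a x = sig Q c a' x := by
  rcases h with rfl | rfl
  exacts [rfl, sig_neg_left c a' x]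

theorem PM.sig {x y : V n} (h : PM x y) (c : K) (a : V n) : PM (sig Q c a x) (sig Q c a y) := by
  rcases h with rfl | rfl
  exacts [PM.rfl' _, Or.inr (sig_neg c a y)]

theorem B_sig {c : K} (hc : c ≠ 0) {a : V n} (ha : Q a = c) (x y : V n) :
    B Q (sig Q c a x) (sig Q c a y) = B Q x y := by
  simp only [sig, B_add_l, B_add_r, B_smul_l, B_smul_r, B_self, ha, B_symm Q x a]
  linear_combination (B Q a x * B Q a y * c * (-1 : K)) * sq_one c hc +
    (-(c * B Q a x * B Q a y)) * three_zero

theorem Q_sig {c : K} (hc : c ≠ 0) {a : V n} (ha : Q a = c) (x : V n) : Q (sig Q c a x) = Q x := by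
  have h := B_sig hc ha x x
  rw [B_self, B_self] at h
  exact neg_injective h

theorem sig_sig {c : K} (hc : c ≠ 0) {a : V n} (ha : Q a = c) (x : V n) : sig Q c a (sig Q c a x) = x := by
  simp only [sig, B_add_r, B_smul_r, B_self, ha]
  match_scalars
  · ring
  · linear_combination (-(c * B Q a x)) * sq_one c hc + (-(c * B Q a x)) * three_zero

/-- The third line of two noncommuting ones does not depend on the order. -/
theorem third_comm {c : K} (hc : c ≠ 0) {a b : V n} (h : B Q a b ≠ 0) : PM (sig Q c a b) (sig Q c b a) := by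
  rw [sig, sig, B_symm Q b a]
  rcases ne_zero_cases c _ hc h with e | e
  · right
    rw [e, sq_one c hc]
    module
  · left
    rw [e, mul_neg, neg_neg, sq_one c hc]
    module

theorem mul_sq {c : K} (hc : c ≠ 0) (a : K) : c * (c * a) = a := by rw [← mul_assoc, sq_one c hc, one_mul]

section Nondeg

variable (hQ : (polarBilin Q).Nondegenerate)
include hQ

/-- Prescribed products with independent vectors. -/
theorem exists_dual {r : V n} {l : List (V n)} (hr : r ∉ Submodule.span K {v | v ∈ l}) :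
    ∃ t, B Q r t = 1 ∧ ∀ v ∈ l, B Q v t = 0 := by
  obtain ⟨φ, hφ, hφS⟩ := Submodule.exists_dual_map_eq_bot_of_notMem hr inferInstance
  have hinj : Function.Injective (polarBilin Q) := by
    intro x y e
    rw [← sub_eq_zero]
    refine hQ.1 _ fun z => ?_
    rw [map_sub, LinearMap.sub_apply, e, sub_self]
  obtain ⟨t, ht⟩ : ∃ t, polarBilin Q t = φ := by
    have hsur : Function.Surjective (polarBilin Q) := by
      refine (LinearMap.injective_iff_surjective_of_finrank_eq_finrank ?_).mp hinj
      exact Subspace.dual_finrank_eq.symm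
    exact hsur φ
  have ht' : ∀ x, B Q t x = φ x := fun x => by rw [← ht]; rfl
  have hzero : ∀ v ∈ l, φ v = 0 := fun v hv =>
    (Submodule.mem_bot _).mp (hφS ▸ Submodule.mem_map_of_mem (f := φ)
      (Submodule.subset_span (R := K) (s := {v | v ∈ l}) hv))
  refine ⟨(φ r) • t, ?_, fun v hv => ?_⟩
  · rw [B_smul_r, B_symm Q r t, ht']
    exact sq_one _ hφ
  · rw [B_smul_r, B_symm Q v t, ht', hzero v hv, mul_zero]

/-- A vector of norm `c` perpendicular to some vectors and not to a singular one perpendicular to them. -/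
theorem exists_norm_off {r : V n} {l : List (V n)} (hr : r ∉ Submodule.span K {v | v ∈ l}) (hr0 : Q r = 0)
    (hperp : ∀ v ∈ l, B Q v r = 0) (c : K) :
    ∃ z, Q z = c ∧ (∀ v ∈ l, B Q v z = 0) ∧ B Q r z ≠ 0 := by
  obtain ⟨t, ht, hl⟩ := exists_dual hQ hr
  refine ⟨t + (c - Q t) • r, ?_, fun v hv => ?_, ?_⟩
  · rw [Q_add, Q_smul, hr0, B_smul_r, B_symm Q t r, ht]
    ring
  · rw [B_add_r, B_smul_r, hl v hv, hperp v hv, mul_zero, add_zero]
  · rw [B_add_r, B_smul_r, ht, B_self, hr0, neg_zero, mul_zero, add_zero]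
    exact one_ne_zero

/-- A singular vector inside the span of an orthogonal frame and a singular vector perpendicular to it. -/
theorem pm_of_mem_span_two {c : K} (hc : c ≠ 0) {x r s : V n} (hx : Q x = c) (hxr : B Q x r = 0)
    (hxs : B Q x s = 0) (hs0 : s ≠ 0) (hs : s ∈ Submodule.span K {v | v ∈ [x, r]}) : PM s r := by
  have hset : {v : V n | v ∈ [x, r]} = {x, r} := by ext v; simp
  rw [hset, Submodule.mem_span_pair] at hs
  obtain ⟨a, b, rfl⟩ := hs
  rw [B_add_r, B_smul_r, B_smul_r, hxr, B_self, hx, mul_zero, add_zero, mul_eq_zero, neg_eq_zero] at hxs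
  have ha := hxs.resolve_right hc
  rw [ha, zero_smul, zero_add] at hs0 ⊢
  exact (PM.rfl' r).smul fun e => hs0 (by rw [e, zero_smul])

theorem pm_of_mem_span_three {c : K} (hc : c ≠ 0) {x y r s : V n} (hx : Q x = c) (hy : Q y = c)
    (hxy : B Q x y = 0) (hxr : B Q x r = 0) (hyr : B Q y r = 0) (hxs : B Q x s = 0) (hys : B Q y s = 0)
    (hs0 : s ≠ 0) (hs : s ∈ Submodule.span K {v | v ∈ [x, y, r]}) : PM s r := by
  have hset : {v : V n | v ∈ [x, y, r]} = insert x {y, r} := by ext v; simp
  rw [hset, Submodule.mem_span_insert] at hs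
  obtain ⟨a, z, hz, rfl⟩ := hs
  obtain ⟨b, e, rfl⟩ := Submodule.mem_span_pair.mp hz
  rw [B_add_r, B_add_r, B_smul_r, B_smul_r, B_smul_r, hxy, hxr, B_self, hx, mul_zero, mul_zero, add_zero,
    add_zero, mul_eq_zero, neg_eq_zero] at hxs
  have ha := hxs.resolve_right hc
  rw [B_add_r, B_add_r, B_smul_r, B_smul_r, B_smul_r, B_symm Q y x, hxy, hyr, B_self, hy, mul_zero, mul_zero,
    zero_add, add_zero, mul_eq_zero, neg_eq_zero] at hys
  have hb := hys.resolve_right hc
  rw [ha, hb, zero_smul, zero_smul, zero_add, zero_add] at hs0 ⊢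
  exact (PM.rfl' r).smul fun e' => hs0 (by rw [e', zero_smul])

/-- A singular partner of a singular vector perpendicular to some vectors. -/
theorem exists_partner_vec {r : V n} {l : List (V n)} (hr : r ∉ Submodule.span K {v | v ∈ l}) (hr0 : Q r = 0)
    (hperp : ∀ v ∈ l, B Q v r = 0) {c : K} (hc : c ≠ 0) :
    ∃ r', Q r' = 0 ∧ B Q r r' = c ∧ ∀ v ∈ l, B Q v r' = 0 := by
  obtain ⟨t, ht, hl⟩ := exists_dual hQ hr
  refine ⟨c • t + (-(c * Q t)) • r, ?_, ?_, fun v hv => ?_⟩
  · rw [Q_add, Q_smul, Q_smul, hr0, B_smul_l, B_smul_r, B_symm Q t r, ht]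
    linear_combination (0 : K) * sq_one c hc
  · rw [B_add_r, B_smul_r, B_smul_r, ht, B_self, hr0]
    ring
  · rw [B_add_r, B_smul_r, B_smul_r, hl v hv, hperp v hv, mul_zero, mul_zero, add_zero]

end Nondeg

end CfsgFischer.Refl
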