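/-
Coordinates of the partners by lines of one norm over three elements.
-/
import Cfsg.Agent.Lib.Fischer.Refl.Lin
import Cfsg.Agent.Lib.Fischer.Interface
import Cfsg.Agent.Lib.Fischer.LocalCoord

set_option autoImplicit false
set_option linter.unusedSectionVars false

namespace CfsgFischer.Refl

open Cfsg CfsgThreeTrans QuadraticMap CfsgReflClass

universe u

variable {n : ℕ} {Q : QuadraticForm K (V n)} {c : K}

/-- The reflections of norm `c` in the group they generate. -/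
abbrev RSet (Q : QuadraticForm K (V n)) (c : K) : Set ↥(Cfsg.reflectionSubgroup (⇑Q) c) :=
  {g | (g : ↥(Cfsg.isometryGroup K (⇑Q))) ∈ Cfsg.reflectionsOfNorm (⇑Q) c}

theorem rset_vec (hc : c ≠ 0) {g : ↥(Cfsg.reflectionSubgroup (⇑Q) c)} (hg : g ∈ RSet Q c) :
    ∃ v, Q v = c ∧ IsRefl Q g.1 v := by
  obtain ⟨v, hv, hm⟩ := hg
  exact ⟨v, hv, (isRefl_iff (hv ▸ hc)).mpr hm⟩

theorem rset_of_vec (hc : c ≠ 0) {v : V n} (hv : Q v = c) :
    ∃ g ∈ RSet Q c, IsRefl Q (g : ↥(Cfsg.reflectionSubgroup (⇑Q) c)).1 v := by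
  obtain ⟨r, hr⟩ := IsRefl.exists (show Q v ≠ 0 from hv ▸ hc)
  exact ⟨⟨r, Subgroup.subset_closure ⟨v, hv, (isRefl_iff hr.1).mp hr⟩⟩, ⟨v, hv, (isRefl_iff hr.1).mp hr⟩, hr⟩

theorem refl_eq_sig (hc : c ≠ 0) {r : ↥(Cfsg.isometryGroup K (⇑Q))} {v : V n} (hv : Q v = c) (h : IsRefl Q r v)
    (x : V n) : r.1.1.mulVec x = sig Q c v x := by
  rw [h.2, hv, inv_three hc]
  rfl

theorem pm_of_refl (hc : c ≠ 0) {r : ↥(Cfsg.isometryGroup K (⇑Q))} {u v : V n} (hu : Q u = c) (hv : Q v = c)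
    (h1 : IsRefl Q r u) (h2 : IsRefl Q r v) : PM v u := by
  have e := (refl_eq_sig hc hu h1 v).symm.trans (refl_eq_sig hc hv h2 v)
  have e2 : sig Q c v v = -v := by
    rw [sig, B_self, hv, mul_neg, neg_neg, sq_one c hc, one_smul, ← neg_one_smul K v]
    conv_lhs => rw [← one_smul K v, ← add_smul]
    rfl
  rw [e2, sig] at e
  have e3 : v = (-(c * B Q u v)) • u := by
    calc v = -(v + v) := by
          rw [← neg_one_smul K (v + v), smul_add, ← add_smul]
          exact (one_smul K v).symm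
      _ = -(v + v) := rfl
      _ = (-(c * B Q u v)) • u := by linear_combination (norm := module) (-1 : K) • e
  rw [e3]
  refine (PM.rfl' u).smul fun e4 => ?_
  rw [e4, zero_smul] at e3
  rw [e3, QuadraticMap.map_zero] at hv
  exact hc hv.symm

theorem refl_of_pm {r : ↥(Cfsg.isometryGroup K (⇑Q))} {u v : V n} (h : IsRefl Q r u) (huv : PM v u) :
    IsRefl Q r v := by
  rcases huv with rfl | rfl
  · exact h
  · refine ⟨by rw [QuadraticMap.map_neg]; exact h.1, fun x => ?_⟩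
    rw [h.2 x, QuadraticMap.map_neg, show polar (⇑Q) (-u) x = -polar (⇑Q) u x from B_neg_l Q u x]
    simp [mul_neg]

/-- The reflections commute exactly when the lines are equal or perpendicular. -/
theorem refl_commute_iff (hc : c ≠ 0) {g h : ↥(Cfsg.reflectionSubgroup (⇑Q) c)} {u v : V n} (hu : Q u = c)
    (hv : Q v = c) (hg : IsRefl Q g.1 u) (hh : IsRefl Q h.1 v) : Commute g h ↔ B Q u v = 0 ∨ PM u v := by
  constructor
  · intro hgh
    have hcj : IsRefl Q h.1 (g.1.1.1.mulVec v) := by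
      have := hh.conj (g := g.1)
      rwa [show g.1 * h.1 * g.1⁻¹ = h.1 by
        rw [show g.1 * h.1 = h.1 * g.1 from congrArg Subtype.val hgh.eq, mul_inv_cancel_right]] at this
    rw [refl_eq_sig hc hu hg] at hcj
    have hpm := pm_of_refl hc hv (by rw [Q_sig hc hu, hv]) hh hcj
    by_cases hB : B Q u v = 0
    · exact Or.inl hB
    right
    have hk : -(c * B Q u v) ≠ 0 := neg_ne_zero.mpr (mul_ne_zero hc hB)
    rcases hpm with e | e
    · rw [sig, add_eq_left, smul_eq_zero] at e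
      rcases e with e | e
      · exact absurd e hk
      · rw [e, QuadraticMap.map_zero] at hu; exact absurd hu.symm hc
    · rw [sig] at e
      have e3 : v = (-(c * B Q u v)) • u := by
        calc v = -(v + v) := by
              rw [← neg_one_smul K (v + v), smul_add, ← add_smul]
              exact (one_smul K v).symm
          _ = (-(c * B Q u v)) • u := by linear_combination (norm := module) (-1 : K) • e
      have h := (PM.rfl' u).smul hk
      rw [← e3] at h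
      exact h.symm
  · rintro (h0 | h0)
    · refine Subtype.ext (iso_ext Q fun x => ?_)
      show (g.1 * h.1).1.1.mulVec x = (h.1 * g.1).1.1.mulVec x
      rw [iso_mul, iso_mul, refl_eq_sig hc hu hg, refl_eq_sig hc hv hh, refl_eq_sig hc hv hh,
        refl_eq_sig hc hu hg]
      simp only [sig, B_add_r, B_smul_r, h0, B_symm Q v u, mul_zero, add_zero]
      abel
    · rw [show g = h from Subtype.ext ((refl_of_pm hg h0.symm).unique hh)]

section Nondeg

variable (hQ : (polarBilin Q).Nondegenerate) (hn : 5 ≤ n) (hc : c ≠ 0)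
include hQ hn hc

theorem rset_commute_of_mk {r s : ↥(Cfsg.reflectionSubgroup (⇑Q) c)} (hr : r ∈ RSet Q c) (hs : s ∈ RSet Q c)
    (h : Commute (r : ↥(Cfsg.reflectionSubgroup (⇑Q) c) ⧸ Subgroup.center ↥(Cfsg.reflectionSubgroup (⇑Q) c))
      (s : ↥(Cfsg.reflectionSubgroup (⇑Q) c) ⧸ Subgroup.center ↥(Cfsg.reflectionSubgroup (⇑Q) c))) :
    Commute r s := by
  have hD := (three_class_three hQ hn hc).1
  by_contra hn'
  have h3 := CfsgThreeTrans.pow_three hD hr hs hn'
  have h2 : ((r : ↥(Cfsg.reflectionSubgroup (⇑Q) c) ⧸ Subgroup.center ↥(Cfsg.reflectionSubgroup (⇑Q) c)) * s) ^ 2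
      = 1 := by
    rw [h.mul_pow, pow_two, pow_two, ← QuotientGroup.mk_mul, ← QuotientGroup.mk_mul,
      CfsgThreeTrans.mul_self hD hr, CfsgThreeTrans.mul_self hD hs, QuotientGroup.mk_one, one_mul]
  have hz : r * s ∈ Subgroup.center ↥(Cfsg.reflectionSubgroup (⇑Q) c) := by
    refine (QuotientGroup.eq_one_iff _).mp ?_
    have h3' : ((r : ↥(Cfsg.reflectionSubgroup (⇑Q) c) ⧸ Subgroup.center ↥(Cfsg.reflectionSubgroup (⇑Q) c)) * s)
        ^ 3 = 1 := by
      rw [← QuotientGroup.mk_mul, ← QuotientGroup.mk_pow, h3, QuotientGroup.mk_one]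
    rw [pow_succ, h2, one_mul] at h3'
    rwa [QuotientGroup.mk_mul]
  have e := Subgroup.mem_center_iff.mp hz r
  apply hn'
  rw [← mul_assoc, CfsgThreeTrans.mul_self hD hr, one_mul] at e
  show r * s = s * r
  conv_rhs => rw [e, mul_assoc, CfsgThreeTrans.mul_self hD hr, mul_one]

theorem rset_mk_inj {r s : ↥(Cfsg.reflectionSubgroup (⇑Q) c)} (hr : r ∈ RSet Q c) (hs : s ∈ RSet Q c)
    (h : (r : ↥(Cfsg.reflectionSubgroup (⇑Q) c) ⧸ Subgroup.center ↥(Cfsg.reflectionSubgroup (⇑Q) c)) = s) :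
    r = s := by
  have hcls := three_class_three hQ hn hc
  by_contra hne
  have hrs : r * s ∈ Subgroup.center ↥(Cfsg.reflectionSubgroup (⇑Q) c) := by
    rw [← CfsgThreeTrans.inv_self hcls.1 hr]
    exact QuotientGroup.eq.mp h
  have hc' : Commute r s := rset_commute_of_mk hQ hn hc hr hs (h ▸ Commute.refl _)
  have hall : ∀ e ∈ RSet Q c, Commute r e := fun e he =>
    ((commute_mul_iff hcls.1 hr hs he hne hc').mp (Subgroup.mem_center_iff.mp hrs e)).1.symm
  obtain ⟨u, hu, hgu⟩ := rset_vec hc hr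
  have hu0 : u ≠ 0 := fun e => hc (by rw [← hu, e, QuadraticMap.map_zero])
  obtain ⟨v, hv, hgv⟩ := rset_vec hc hs
  obtain ⟨w, hw, huw, hwv⟩ : ∃ w, Q w = c ∧ B Q u w ≠ 0 ∧ B Q w v ≠ 0 := by
    rcases (refl_commute_iff hc hu hv hgu hgv).mp hc' with h0 | h0
    · obtain ⟨w, hw, h1, h2⟩ := exists_linking hQ hn hc hu hv h0
      exact ⟨w, hw, h1, h2⟩
    · exact absurd (Subtype.ext ((refl_of_pm hgu h0.symm).unique hgv)) hne
  obtain ⟨g, hg, hgw⟩ := rset_of_vec hc hw
  rcases (refl_commute_iff hc hu hw hgu hgw).mp (hall g hg) with h0 | h0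
  · exact huw h0
  · have hgr : g = r := Subtype.ext ((refl_of_pm hgw h0).unique hgu)
    have h1 := (refl_commute_iff hc hw hv hgw hgv).mp (hgr ▸ hc')
    rcases h1 with h1 | h1
    · exact hwv h1
    · exact hne (hgr ▸ Subtype.ext ((refl_of_pm hgw h1.symm).unique hgv))

end Nondeg

variable {G : Type u} [Group G] {D : Set G}

/-- The partners of `d` as lines of norm `c`. -/
structure RCoord (D : Set G) (d : G) (Q : QuadraticForm K (V n)) (c : K) where
  v : G → V n
  mem : ∀ x ∈ Ds D d, Q (v x) = c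
  inj : ∀ x ∈ Ds D d, ∀ y ∈ Ds D d, PM (v x) (v y) → x = y
  surj : ∀ a, Q a = c → ∃ x ∈ Ds D d, PM (v x) a
  comm : ∀ x ∈ Ds D d, ∀ y ∈ Ds D d, x ≠ y → (Commute x y ↔ B Q (v x) (v y) = 0)
  conj : ∀ x ∈ Ds D d, ∀ y ∈ Ds D d, PM (v (y * x * y⁻¹)) (sig Q c (v y) (v x))

variable [Finite G]

theorem RCoord.of_coord (hD : IsThreeTranspositionClass D) (hQ : (polarBilin Q).Nondegenerate) (hn : 5 ≤ n) (hc : c ≠ 0) {d : G}
    (C : Coord D d ((QuotientGroup.mk : ↥(Cfsg.reflectionSubgroup (⇑Q) c) →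
      ↥(Cfsg.reflectionSubgroup (⇑Q) c) ⧸ Subgroup.center ↥(Cfsg.reflectionSubgroup (⇑Q) c)) '' RSet Q c)) :
    Nonempty (RCoord D d Q c) := by
  classical
  have hpick : ∀ x ∈ Ds D d, ∃ v g, g ∈ RSet Q c ∧ Q v = c ∧ IsRefl Q g.1 v ∧
      (g : ↥(Cfsg.reflectionSubgroup (⇑Q) c) ⧸ Subgroup.center _) = C.f x := by
    intro x hx
    obtain ⟨g, hg, hgx⟩ := C.mem x hx
    obtain ⟨v, hv, hgv⟩ := rset_vec hc hg
    exact ⟨v, g, hg, hv, hgv, hgx⟩
  choose! v g hg hv hgv hgx using hpick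
  have hcomm : ∀ x ∈ Ds D d, ∀ y ∈ Ds D d, (Commute x y ↔ Commute (g x) (g y)) := by
    intro x hx y hy
    rw [C.comm x hx y hy, ← hgx x hx, ← hgx y hy]
    exact ⟨rset_commute_of_mk hQ hn hc (hg x hx) (hg y hy), fun h => h.map (QuotientGroup.mk' _)⟩
  have hginj : ∀ x ∈ Ds D d, ∀ y ∈ Ds D d, g x = g y → x = y := fun x hx y hy e =>
    C.inj x hx y hy (by rw [← hgx x hx, ← hgx y hy, e])
  have huniq : ∀ x ∈ Ds D d, ∀ (h : ↥(Cfsg.reflectionSubgroup (⇑Q) c)) (a : V n), h ∈ RSet Q c → Q a = c →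
      IsRefl Q h.1 a → (h : ↥(Cfsg.reflectionSubgroup (⇑Q) c) ⧸ Subgroup.center _) = C.f x → PM (v x) a := by
    intro x hx h a hh ha hha e
    have : h = g x := rset_mk_inj hQ hn hc hh (hg x hx) (e.trans (hgx x hx).symm)
    subst this
    exact pm_of_refl hc ha (hv x hx) hha (hgv x hx)
  refine ⟨{
    v := v
    mem := hv
    inj := fun x hx y hy h => hginj x hx y hy
      (Subtype.ext ((refl_of_pm (hgv x hx) h.symm).unique (hgv y hy)))
    surj := fun a ha => ?_
    comm := fun x hx y hy hne => ?_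
    conj := fun x hx y hy => ?_ }⟩
  · obtain ⟨h, hh, hha⟩ := rset_of_vec hc ha
    obtain ⟨x, hx, hxe⟩ := C.surj _ ⟨h, hh, rfl⟩
    exact ⟨x, hx, huniq x hx h a hh ha hha hxe.symm⟩
  · rw [hcomm x hx y hy, refl_commute_iff hc (hv x hx) (hv y hy) (hgv x hx) (hgv y hy), or_iff_left]
    exact fun h => hne (hginj x hx y hy (Subtype.ext ((refl_of_pm (hgv x hx) h.symm).unique (hgv y hy))))
  · have hcls := three_class_three hQ hn hc
    refine huniq _ (Ds_closed_mem hD hx hy) (g y * g x * (g y)⁻¹) _ (cls_conj hcls _ (hg x hx)) ?_ ?_ ?_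
    · rw [Q_sig hc (hv y hy), hv x hx]
    · have := (hgv x hx).conj (g := (g y).1)
      rw [refl_eq_sig hc (hv y hy) (hgv y hy)] at this
      exact this
    · rw [C.conj x hx y hy, ← hgx x hx, ← hgx y hy]
      rfl

end CfsgFischer.Refl
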