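/-
One more coordinate of norm `c`.
-/
import Cfsg.Agent.Lib.Fischer.Refl.Lin
import Cfsg.Prelude.Def_FischerSpaces

set_option autoImplicit false
set_option linter.unusedSectionVars false

namespace CfsgFischer.Refl

open QuadraticMap

variable {n : ℕ} (Q : QuadraticForm K (V n)) (c : K)

/-- The sum of a line of norm `c` and the space. -/
noncomputable def ext : QuadraticForm K (V (n + 1)) :=
  c • (QuadraticMap.sq (R := K)).comp (LinearMap.proj (0 : Fin (n + 1))) + Q.comp (LinearMap.funLeft K K Fin.succ)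

theorem ext_cons (t : K) (a : V n) : ext Q c (Fin.cons t a) = c * (t * t) + Q a := by
  have h : LinearMap.funLeft K K Fin.succ (Fin.cons t a : V (n + 1)) = a := by
    funext i
    simp [LinearMap.funLeft]
  simp [ext, h, QuadraticMap.sq]

theorem cons_add (t s : K) (a b : V n) :
    (Fin.cons t a : V (n + 1)) + Fin.cons s b = Fin.cons (t + s) (a + b) := by
  funext i
  refine Fin.cases ?_ (fun j => ?_) i <;> simp

theorem cons_smul (k t : K) (a : V n) : k • (Fin.cons t a : V (n + 1)) = Fin.cons (k * t) (k • a) := by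
  funext i
  refine Fin.cases ?_ (fun j => ?_) i <;> simp

theorem cons_neg (t : K) (a : V n) : -(Fin.cons t a : V (n + 1)) = Fin.cons (-t) (-a) := by
  funext i
  refine Fin.cases ?_ (fun j => ?_) i <;> simp

theorem cons_inj' {t s : K} {a b : V n} :
    (Fin.cons t a : V (n + 1)) = Fin.cons s b ↔ t = s ∧ a = b := Fin.cons_inj

theorem B_ext (t s : K) (a b : V n) :
    B (ext Q c) (Fin.cons t a) (Fin.cons s b) = -(c * (t * s)) + B Q a b := by
  show polar (⇑(ext Q c)) _ _ = _
  rw [QuadraticMap.polar, cons_add, ext_cons, ext_cons, ext_cons, Q_add Q a b]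
  linear_combination (c * (t * s)) * CfsgReflClass.three_zero

theorem sig_cons (t s : K) (a b : V n) :
    sig (ext Q c) c (Fin.cons t a) (Fin.cons s b) =
      Fin.cons (s + -(c * (-(c * (t * s)) + B Q a b)) * t) (b + (-(c * (-(c * (t * s)) + B Q a b))) • a) := by
  rw [sig, B_ext, cons_smul, cons_add]

theorem pm_cons {t s : K} {a b : V n} (h : PM (Fin.cons t a : V (n + 1)) (Fin.cons s b)) :
    (t = s ∧ a = b) ∨ (t = -s ∧ a = -b) := by
  rcases h with h | h
  · exact Or.inl (cons_inj'.mp h)
  · rw [cons_neg] at h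
    exact Or.inr (cons_inj'.mp h)

variable {Q c}

theorem ext_nondegenerate (hQ : (polarBilin Q).Nondegenerate) (hc : c ≠ 0) :
    (polarBilin (ext Q c)).Nondegenerate := by
  have hl : ∀ x : V (n + 1), (∀ y, B (ext Q c) x y = 0) → x = 0 := by
    intro x hx
    rw [← Fin.cons_self_tail x] at hx ⊢
    have h0 := hx (Fin.cons 1 0)
    rw [B_ext, B_symm Q, B_zero_l, add_zero, mul_one, neg_eq_zero, mul_eq_zero] at h0
    have ha : (Fin.tail x) = 0 := hQ.1 _ fun b => by
      have h1 := hx (Fin.cons 0 b)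
      rw [B_ext, mul_zero, mul_zero, neg_zero, zero_add] at h1
      exact h1
    rw [h0.resolve_left hc, ha]
    funext i
    refine Fin.cases ?_ (fun j => ?_) i <;> simp
  exact ⟨hl, fun y hy => hl y fun x => by
    rw [B_symm]
    exact hy x⟩

theorem ext_det : Cfsg.polarGramDet (⇑(ext Q c)) = -c * Cfsg.polarGramDet (⇑Q) := by
  have e0 : (Pi.single 0 1 : V (n + 1)) = Fin.cons 1 0 := by
    funext i
    refine Fin.cases ?_ (fun j => ?_) i <;> simp
  have es : ∀ i : Fin n, (Pi.single i.succ 1 : V (n + 1)) = Fin.cons 0 (Pi.single i 1) := fun i => by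
    funext j
    refine Fin.cases ?_ (fun j => ?_) j
    · simp [Pi.single_eq_of_ne (Ne.symm (Fin.succ_ne_zero i))]
    · by_cases h : j = i
      · subst h; simp
      · simp [h]
  have h00 : B (ext Q c) (Pi.single 0 1) (Pi.single 0 1) = -c := by
    rw [e0, B_ext, B_zero_l, add_zero, mul_one, mul_one]
  have h0s : ∀ i : Fin n, B (ext Q c) (Pi.single 0 1) (Pi.single i.succ 1) = 0 := fun i => by
    rw [e0, es, B_ext, B_zero_l, mul_zero, mul_zero, neg_zero, add_zero]
  have hss : ∀ i j : Fin n, B (ext Q c) (Pi.single i.succ 1) (Pi.single j.succ 1) =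
      B Q (Pi.single i 1) (Pi.single j 1) := fun i j => by
    rw [es, es, B_ext, zero_mul, mul_zero, neg_zero, zero_add]
  unfold Cfsg.polarGramDet
  rw [Matrix.det_succ_row_zero, Finset.sum_eq_single 0]
  · simp only [Matrix.of_apply, Fin.val_zero, pow_zero, one_mul, Fin.succAbove_zero]
    rw [show polar (⇑(ext Q c)) (Pi.single 0 1) (Pi.single 0 1) = -c from h00]
    congr 1
    refine congrArg Matrix.det (Matrix.ext fun i j => ?_)
    exact hss i j
  · intro j _ hj
    obtain ⟨i, rfl⟩ := Fin.exists_succ_eq.mpr hj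
    simp only [Matrix.of_apply]
    rw [show polar (⇑(ext Q c)) (Pi.single 0 1) (Pi.single i.succ 1) = 0 from h0s i, mul_zero, zero_mul]
  · exact fun h => absurd (Finset.mem_univ _) h

/-- The reflection as a linear map. -/
noncomputable def sigL (Q : QuadraticForm K (V n)) (c : K) (a : V n) : V n →ₗ[K] V n where
  toFun := sig Q c a
  map_add' := sig_add c a
  map_smul' := fun s x => sig_smul c s a x

theorem PM.map {m : ℕ} (g : V n →ₗ[K] V m) {x y : V n} (h : PM x y) : PM (g x) (g y) := by
  rcases h with rfl | rfl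
  exacts [PM.rfl' _, Or.inr (map_neg g y)]

theorem map_sig {g : V n →ₗ[K] V n} (hg : ∀ x y, B Q (g x) (g y) = B Q x y) (a x : V n) :
    g (sig Q c a x) = sig Q c (g a) (g x) := by
  rw [sig, sig, map_add, map_smul, hg]

end CfsgFischer.Refl
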