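/-
A common partner of two noncommuting members gives a singular vector: the twins of the common set.
-/
import Cfsg.Agent.Lib.Fischer.Refl.Coord

set_option autoImplicit false
set_option linter.unusedSectionVars false

namespace CfsgFischer.Refl

open Cfsg CfsgThreeTrans QuadraticMap CfsgReflClass

universe u

variable {n : ℕ} {Q : QuadraticForm K (V n)} {c : K} {G : Type u} [Group G] [Finite G] {D : Set G}

theorem RCoord.cj (hD : IsThreeTranspositionClass D) {d : G} (C : RCoord D d Q c) (g : G) :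
    Nonempty (RCoord D (g * d * g⁻¹) Q c) := by
  have back : ∀ x ∈ Ds D (g * d * g⁻¹), g⁻¹ * x * g⁻¹⁻¹ ∈ Ds D d := by
    intro x hx
    rw [← cj_Ds hD] at hx
    obtain ⟨y, hy, rfl⟩ := hx
    rwa [cj_cj, inv_mul_cancel, one_mul, inv_one, mul_one]
  refine ⟨{
    v := fun x => C.v (g⁻¹ * x * g⁻¹⁻¹)
    mem := fun x hx => C.mem _ (back x hx)
    inj := fun x hx y hy h => cj_injective g⁻¹ (C.inj _ (back x hx) _ (back y hy) h)
    surj := fun a ha => ?_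
    comm := fun x hx y hy hne => (commute_cj_iff g⁻¹).symm.trans
      (C.comm _ (back x hx) _ (back y hy) fun e => hne (cj_injective g⁻¹ e))
    conj := fun x hx y hy => ?_ }⟩
  · obtain ⟨x, hx, h⟩ := C.surj a ha
    refine ⟨g * x * g⁻¹, ?_, ?_⟩
    · rw [← cj_Ds hD]; exact ⟨x, hx, rfl⟩
    · show PM (C.v _) a
      rwa [cj_cj, inv_mul_cancel, one_mul, inv_one, mul_one]
  · show PM (C.v (g⁻¹ * (y * x * y⁻¹) * g⁻¹⁻¹)) _
    have e : g⁻¹ * (y * x * y⁻¹) * g⁻¹⁻¹ =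
        (g⁻¹ * y * g⁻¹⁻¹) * (g⁻¹ * x * g⁻¹⁻¹) * (g⁻¹ * y * g⁻¹⁻¹)⁻¹ := by group
    rw [e]
    exact C.conj _ (back x hx) _ (back y hy)

theorem RCoord.exists_at (hD : IsThreeTranspositionClass D) {d : G} (C : RCoord D d Q c) (hd : d ∈ D) {a : G}
    (ha : a ∈ D) : Nonempty (RCoord D a Q c) := by
  obtain ⟨g, rfl⟩ := cls_exists_conj hD hd ha
  exact C.cj hD g

namespace RCoord

variable {d : G} (C : RCoord D d Q c)

theorem ne_zero (hc : c ≠ 0) {x : G} (hx : x ∈ Ds D d) : C.v x ≠ 0 := fun e =>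
  hc (by rw [← C.mem x hx, e, QuadraticMap.map_zero])

/-- Noncommuting members have vectors with product `c`, whose sum is singular. -/
theorem twin (hc : c ≠ 0) {x y : G} (hx : x ∈ Ds D d) (hy : y ∈ Ds D d) (hxy : ¬ Commute x y) :
    ∃ b, PM (C.v y) b ∧ Q b = c ∧ B Q (C.v x) b = c ∧ Q (C.v x + b) = 0 ∧ C.v x + b ≠ 0 ∧
      B Q (C.v x) (C.v x + b) = 0 ∧ B Q b (C.v x + b) = 0 := by
  have hne : x ≠ y := fun e => hxy (e ▸ Commute.refl x)
  have hB : B Q (C.v x) (C.v y) ≠ 0 := fun e => hxy ((C.comm x hx y hy hne).mpr e)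
  obtain ⟨b, hb, hBb⟩ : ∃ b, PM (C.v y) b ∧ B Q (C.v x) b = c := by
    rcases ne_zero_cases c _ hc hB with e | e
    · exact ⟨_, PM.rfl' _, e⟩
    · exact ⟨-C.v y, (PM.neg _).symm, by rw [B_neg_r, e, neg_neg]⟩
  have hQb : Q b = c := by rw [← hb.Q_eq, C.mem y hy]
  refine ⟨b, hb, hQb, hBb, ?_, ?_, ?_, ?_⟩
  · rw [Q_add, C.mem x hx, hQb, hBb]; linear_combination c * three_zero
  · intro e
    refine hne (C.inj x hx y hy ((?_ : PM (C.v x) b).trans hb.symm))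
    exact Or.inr (eq_neg_of_add_eq_zero_left e)
  · rw [B_add_r, B_self, C.mem x hx, hBb, neg_add_cancel]
  · rw [B_add_r, B_self, hQb, B_symm, hBb, add_neg_cancel]

/-- The third member. -/
theorem third_vec (hc : c ≠ 0) {x y : G} (hx : x ∈ Ds D d) (hy : y ∈ Ds D d) {b : V n} (hb : PM (C.v y) b)
    (hBb : B Q (C.v x) b = c) : PM (C.v (x * y * x⁻¹)) (b - C.v x) := by
  refine (C.conj y hy x hx).trans ((hb.sig c _).trans (Or.inl ?_))
  rw [sig, hBb, sq_one c hc, neg_one_smul, sub_eq_add_neg]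

end RCoord

theorem three_values {a b : K} : ((a = 0 ↔ b = 0) ∧ (a = 0 ↔ b - a = 0)) → a + b = 0 := by revert a b; decide

theorem three_values' {a b : K} : a + b = 0 → ((a = 0 ↔ b = 0) ∧ (a = 0 ↔ b - a = 0)) := by revert a b; decide

theorem three_values'' {a b : K} : a + b ≠ 0 → ¬ ((a = 0 ↔ b = 0) ∧ (a = 0 ↔ b - a = 0)) := by
  revert a b; decide

/-- The singular vector of a far member at a common partner. -/
def IsLink {d : G} (C : RCoord D d Q c) (e x : G) (r : V n) : Prop :=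
  Q r = 0 ∧ r ≠ 0 ∧ B Q (C.v x) r = 0 ∧
    ∀ y ∈ Ds D d, Commute x y → y ≠ x → (Commute e y ↔ B Q (C.v y) r = 0)

/-- Twins seen from both sides. -/
theorem link_core (hD : IsThreeTranspositionClass D) (hc : c ≠ 0) {d e x : G} (hd : d ∈ D) (C : RCoord D d Q c)
    (E : RCoord D x Q c) (hde : ¬ Commute d e) (hx : x ∈ Sc D d e)
    {y₀ y₁ : G} (h₀ : y₀ ∈ Ds D x) (h₁ : y₁ ∈ Ds D x) (h₀d : y₀ ∈ Ds D d) (h₁d : y₁ ∈ Ds D d)
    (hne : ¬ Commute y₀ y₁) (he₀ : Commute e y₀) (he₁ : Commute e y₁) {a b : V n} (ha : PM (E.v y₁) a)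
    (hBa : B Q (E.v y₀) a = c) (hb : PM (C.v y₁) b) (hBb : B Q (C.v y₀) b = c)
    (hcom : ∀ y ∈ Ds D x, Commute d y → y ≠ d → y ≠ e → (Commute e y ↔ B Q (E.v y) (E.v y₀ + a) = 0)) :
    ∀ y ∈ Ds D d, Commute x y → y ≠ x → (Commute e y ↔ B Q (C.v y) (C.v y₀ + b) = 0) := by
  intro y hy hxy hyx
  have hyE : y ∈ Ds D x := ⟨hy.1, hyx, hxy⟩
  have hye : y ≠ e := fun h => hde (h ▸ hy.2.2)
  have key := hcom y hyE hy.2.2 hy.2.1 hye
  set y₂ := y₀ * y₁ * y₀⁻¹ with hy₂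
  have h₂d : y₂ ∈ Ds D d := Ds_closed_mem hD h₁d h₀d
  have h₂ : y₂ ∈ Ds D x := Ds_closed_mem hD h₁ h₀
  have he₂ : Commute e y₂ := by
    have := (commute_cj_iff y₀).mpr he₁
    rwa [show y₀ * e * y₀⁻¹ = e by rw [he₀.symm.eq, mul_inv_cancel_right]] at this
  have ea : PM (E.v y₂) (a - E.v y₀) := E.third_vec hc h₀ h₁ ha hBa
  have eb : PM (C.v y₂) (b - C.v y₀) := C.third_vec hc h₀d h₁d hb hBb
  have hB0 : B Q (C.v y₀) (C.v y₀ + b) = 0 := by rw [B_add_r, B_self, C.mem y₀ h₀d, hBb, neg_add_cancel]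
  have hB1 : B Q b (C.v y₀ + b) = 0 := by
    rw [B_add_r, B_self, ← hb.Q_eq, C.mem y₁ h₁d, B_symm, hBb, add_neg_cancel]
  by_cases h3 : y = y₀ ∨ y = y₁ ∨ y = y₂
  · have hey : Commute e y := by rcases h3 with rfl | rfl | rfl <;> assumption
    refine iff_of_true hey ?_
    rcases h3 with rfl | rfl | rfl
    · exact hB0
    · exact (hb.B_zero _).mpr hB1
    · refine (eb.B_zero _).mpr ?_
      rw [B_sub_l, hB0, hB1, sub_zero]
  push Not at h3
  obtain ⟨n0, n1, n2⟩ := h3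
  have e0 : B Q (C.v y) (C.v y₀) = 0 ↔ B Q (E.v y) (E.v y₀) = 0 :=
    (C.comm y hy y₀ h₀d n0).symm.trans (E.comm y hyE y₀ h₀ n0)
  have e1 : B Q (C.v y) b = 0 ↔ B Q (E.v y) a = 0 := by
    rw [B_symm Q _ b, B_symm Q _ a, ← hb.B_zero, ← ha.B_zero, B_symm Q (C.v y₁), B_symm Q (E.v y₁)]
    exact (C.comm y hy y₁ h₁d n1).symm.trans (E.comm y hyE y₁ h₁ n1)
  have e2 : B Q (C.v y) b - B Q (C.v y) (C.v y₀) = 0 ↔ B Q (E.v y) a - B Q (E.v y) (E.v y₀) = 0 := by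
    rw [← B_sub_r, ← B_sub_r, B_symm Q _ (b - _), B_symm Q _ (a - _), ← eb.B_zero, ← ea.B_zero,
      B_symm Q (C.v y₂), B_symm Q (E.v y₂)]
    exact (C.comm y hy y₂ h₂d n2).symm.trans (E.comm y hyE y₂ h₂ n2)
  rw [key, B_add_r, B_add_r]
  constructor
  · intro h
    obtain ⟨k1, k2⟩ := three_values' h
    exact three_values ⟨e0.trans (k1.trans e1.symm), e0.trans (k2.trans e2.symm)⟩
  · intro h
    obtain ⟨k1, k2⟩ := three_values' h
    exact three_values ⟨e0.symm.trans (k1.trans e1), e0.symm.trans (k2.trans e2)⟩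

theorem not_pm_sub (hc : c ≠ 0) {z r : V n} (hz : Q z = c) (hr : Q r = 0) (hr0 : r ≠ 0) : ¬ PM z (r - z) := by
  rintro (h | h)
  · rw [← eq_sub_iff_add_eq.mp h, Q_add, hz, B_self, hz] at hr
    exact hc (by linear_combination hr)
  · rw [neg_sub] at h
    exact hr0 (sub_eq_self.mp h.symm)

section Main

variable (hD : IsThreeTranspositionClass D) (hQ : (polarBilin Q).Nondegenerate) (hn : 5 ≤ n) (hc : c ≠ 0)
  {d : G} (hd : d ∈ D) (C : RCoord D d Q c)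
include hQ hn hc

/-- A vector of norm `c` perpendicular to one of norm `c` and to a singular one. -/
theorem exists_norm_perp {p r : V n} (hp : Q p = c) (hr : Q r = 0) (hr0 : r ≠ 0) (hpr : B Q p r = 0) :
    ∃ z, Q z = c ∧ B Q p z = 0 ∧ B Q r z = 0 := by
  have hspan : r ∉ Submodule.span K {v : V n | v ∈ [p]} := by
    intro h
    rw [show {v : V n | v ∈ [p]} = {p} by ext v; simp, Submodule.mem_span_singleton] at h
    obtain ⟨s, rfl⟩ := h
    rw [Q_smul, hp, mul_eq_zero, mul_self_eq_zero] at hr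
    exact hr0 (by rw [hr.resolve_right hc, zero_smul])
  obtain ⟨r', hr', hrr', hl⟩ := exists_partner_vec hQ hspan hr (by simpa using hpr) hc
  have hpr' : B Q p r' = 0 := hl p (by simp)
  have h1 : Q (r + r') = c := by rw [Q_add, hr, hr', hrr', zero_add, zero_add]
  have h2 : Q (r - r') = -c := by rw [Q_sub, hr, hr', hrr', zero_add, zero_sub]
  obtain ⟨z, hz, hzc⟩ := exists_orth_norm hQ (k := 3) (by omega) ![p, r + r', r - r']
    (fun i => by fin_cases i <;> simp [hp, h1, h2, hc])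
    (fun i j hij => by
      have a1 : B Q p (r + r') = 0 := by rw [B_add_r, hpr, hpr', add_zero]
      have a2 : B Q p (r - r') = 0 := by rw [B_sub_r, hpr, hpr', sub_zero]
      have a3 : B Q (r + r') (r - r') = 0 := by
        rw [B_add_l, B_sub_r, B_sub_r, B_self, B_self, hr, hr', B_symm Q r' r, hrr']; ring
      fin_cases i <;> fin_cases j <;> first
        | exact absurd rfl hij
        | exact a1 | exact a2 | exact a3
        | exact (B_symm Q _ _).trans a1 | exact (B_symm Q _ _).trans a2 | exact (B_symm Q _ _).trans a3) hc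
  have z1 : B Q p z = 0 := hz 0
  have z2 : B Q (r + r') z = 0 := hz 1
  have z3 : B Q (r - r') z = 0 := hz 2
  refine ⟨z, hzc, z1, ?_⟩
  rw [B_add_l] at z2
  rw [B_sub_l] at z3
  linear_combination -z2 - z3 + B Q r z * three_zero

include hD hd

/-- In coordinates at a common partner, the far member is perpendicular data to a singular vector. -/
theorem far_at {e x : G} (he : e ∈ D) (hde : ¬ Commute d e) (hx : x ∈ Sc D d e) (E : RCoord D x Q c) :
    ∃ r₀, Q r₀ = 0 ∧ r₀ ≠ 0 ∧ B Q (E.v d) r₀ = 0 ∧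
      ∀ y ∈ Ds D x, Commute d y → y ≠ d → y ≠ e → (Commute e y ↔ B Q (E.v y) r₀ = 0) := by
  have hdx : d ∈ Ds D x := mem_both hd hx.1
  have hex : e ∈ Ds D x := mem_both he hx.2
  obtain ⟨q, hq, -, -, h0, hne0, hp0, -⟩ := E.twin hc hdx hex hde
  refine ⟨E.v d + q, h0, hne0, hp0, fun y hy hdy hyd hye => ?_⟩
  rw [show Commute e y ↔ Commute y e from ⟨Commute.symm, Commute.symm⟩, E.comm y hy e hex hye, B_add_r,
    (E.comm y hy d hdx hyd).mp hdy.symm, zero_add, B_symm Q _ q, ← hq.B_zero, B_symm]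

/-- Each far member has a link at each common partner. -/
theorem exists_link {e x : G} (he : e ∈ D) (hde : ¬ Commute d e) (hx : x ∈ Sc D d e) : ∃ r, IsLink C e x r := by
  obtain ⟨E⟩ := C.exists_at hD hd hx.1.1
  obtain ⟨r₀, h0, hne0, hp0, hcom⟩ := far_at hD hQ hn hc hd he hde hx E
  have hdx : d ∈ Ds D x := mem_both hd hx.1
  obtain ⟨z, hz, hpz, hrz⟩ := exists_norm_perp hQ hn hc (E.mem d hdx) h0 hne0 hp0
  have hz' : Q (r₀ - z) = c := by rw [Q_sub, h0, hz, hrz, zero_add, sub_zero]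
  obtain ⟨y₀, hy₀, k₀⟩ := E.surj z hz
  obtain ⟨y₁, hy₁, k₁⟩ := E.surj (r₀ - z) hz'
  have hp1 : B Q (E.v d) (r₀ - z) = 0 := by rw [B_sub_r, hp0, hpz, sub_zero]
  have h1r : B Q (r₀ - z) r₀ = 0 := by rw [B_sub_l, B_self, h0, B_symm Q z, hrz, neg_zero, sub_zero]
  have hnd₀ : y₀ ≠ d := by
    intro h; subst h
    have hh := (k₀.B_zero z).mp (by rw [← hpz]) 
    rw [B_self, hz, neg_eq_zero] at hh
    exact hc hh
  have hnd₁ : y₁ ≠ d := by
    intro h; subst h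
    have hh := (k₁.B_zero (r₀ - z)).mp (by rw [← hp1])
    rw [B_self, hz', neg_eq_zero] at hh
    exact hc hh
  have hd₀ : Commute d y₀ :=
    ((E.comm y₀ hy₀ d hdx hnd₀).mpr ((k₀.B_zero _).mpr (by rw [B_symm]; exact hpz))).symm
  have hd₁ : Commute d y₁ :=
    ((E.comm y₁ hy₁ d hdx hnd₁).mpr ((k₁.B_zero _).mpr (by rw [B_symm]; exact hp1))).symm
  have he₀ : Commute e y₀ := (hcom y₀ hy₀ hd₀ hnd₀ fun h => hde (h ▸ hd₀)).mpr
    ((k₀.B_zero _).mpr (by rw [B_symm]; exact hrz))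
  have he₁ : Commute e y₁ := (hcom y₁ hy₁ hd₁ hnd₁ fun h => hde (h ▸ hd₁)).mpr ((k₁.B_zero _).mpr h1r)
  obtain ⟨s, hs0, hs⟩ : ∃ s : K, s ≠ 0 ∧ E.v y₀ = s • z := by
    rcases k₀ with h | h
    exacts [⟨1, one_ne_zero, by rw [h, one_smul]⟩, ⟨-1, by decide, by rw [h, neg_one_smul]⟩]
  have hzy : B Q z (r₀ - z) = c := by rw [B_sub_r, B_self, hz, B_symm, hrz, zero_sub, neg_neg]
  have hne01 : y₀ ≠ y₁ := fun h => not_pm_sub hc hz h0 hne0 (k₀.symm.trans (h ▸ k₁))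
  have hnc : ¬ Commute y₀ y₁ := fun h => by
    have h2 := (E.comm y₀ hy₀ y₁ hy₁ hne01).mp h
    rw [B_symm, k₁.B_zero, B_symm, k₀.B_zero, hzy] at h2
    exact hc h2
  have hy₀d : y₀ ∈ Ds D d := ⟨hy₀.1, hnd₀, hd₀⟩
  have hy₁d : y₁ ∈ Ds D d := ⟨hy₁.1, hnd₁, hd₁⟩
  obtain ⟨b, hb, -, hBb, hr, hrne, -, -⟩ := C.twin hc hy₀d hy₁d hnc
  refine ⟨C.v y₀ + b, hr, hrne, ?_, ?_⟩
  · have hbx : B Q b (C.v x) = 0 := (hb.B_zero _).mp
      ((C.comm y₁ hy₁d x hx.1 hy₁.2.1).mp hy₁.2.2.symm)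
    rw [B_add_r, B_symm Q _ (C.v y₀), (C.comm y₀ hy₀d x hx.1 hy₀.2.1).mp hy₀.2.2.symm, B_symm Q _ b, hbx,
      add_zero]
  · refine link_core hD hc hd C E hde hx hy₀ hy₁ hy₀d hy₁d hnc he₀ he₁ (a := s • (r₀ - z))
      (k₁.trans ((PM.rfl' _).smul hs0).symm) ?_ hb hBb ?_
    · rw [hs, B_smul_l, B_smul_r, hzy, ← mul_assoc, sq_one s hs0, one_mul]
    · intro y hy h1 h2 h3
      rw [hcom y hy h1 h2 h3, hs, ← smul_add, show z + (r₀ - z) = r₀ by abel, B_smul_r, mul_eq_zero,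
        or_iff_right hs0]

/-- Every singular vector perpendicular to a partner is a link. -/
theorem exists_far {x : G} (hx : x ∈ Ds D d) {r : V n} (hr : Q r = 0) (hr0 : r ≠ 0) (hxr : B Q (C.v x) r = 0) :
    ∃ e ∈ D, ¬ Commute d e ∧ x ∈ Sc D d e ∧ IsLink C e x r := by
  obtain ⟨E⟩ := C.exists_at hD hd hx.1
  have hdx : d ∈ Ds D x := mem_both hd hx
  obtain ⟨z, hz, hxz, hrz⟩ := exists_norm_perp hQ hn hc (C.mem x hx) hr hr0 hxr
  have hz' : Q (r - z) = c := by rw [Q_sub, hr, hz, hrz, zero_add, sub_zero]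
  obtain ⟨y₀, hy₀, k₀⟩ := C.surj z hz
  obtain ⟨y₁, hy₁, k₁⟩ := C.surj (r - z) hz'
  have hx1 : B Q (C.v x) (r - z) = 0 := by rw [B_sub_r, hxr, hxz, sub_zero]
  have hnx₀ : y₀ ≠ x := by
    intro h; subst h
    have hh := (k₀.B_zero z).mp (by rw [← hxz])
    rw [B_self, hz, neg_eq_zero] at hh
    exact hc hh
  have hnx₁ : y₁ ≠ x := by
    intro h; subst h
    have hh := (k₁.B_zero (r - z)).mp (by rw [← hx1])
    rw [B_self, hz', neg_eq_zero] at hh
    exact hc hh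
  have hx₀ : Commute x y₀ :=
    ((C.comm y₀ hy₀ x hx hnx₀).mpr ((k₀.B_zero _).mpr (by rw [B_symm]; exact hxz))).symm
  have hx₁ : Commute x y₁ :=
    ((C.comm y₁ hy₁ x hx hnx₁).mpr ((k₁.B_zero _).mpr (by rw [B_symm]; exact hx1))).symm
  obtain ⟨s, hs0, hs⟩ : ∃ s : K, s ≠ 0 ∧ C.v y₀ = s • z := by
    rcases k₀ with h | h
    exacts [⟨1, one_ne_zero, by rw [h, one_smul]⟩, ⟨-1, by decide, by rw [h, neg_one_smul]⟩]
  have hzy : B Q z (r - z) = c := by rw [B_sub_r, B_self, hz, B_symm, hrz, zero_sub, neg_neg]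
  have hne01 : y₀ ≠ y₁ := fun h => not_pm_sub hc hz hr hr0 (k₀.symm.trans (h ▸ k₁))
  have hnc : ¬ Commute y₀ y₁ := fun h => by
    have h2 := (C.comm y₀ hy₀ y₁ hy₁ hne01).mp h
    rw [B_symm, k₁.B_zero, B_symm, k₀.B_zero, hzy] at h2
    exact hc h2
  have g₀ : y₀ ∈ Ds D x := ⟨hy₀.1, hnx₀, hx₀⟩
  have g₁ : y₁ ∈ Ds D x := ⟨hy₁.1, hnx₁, hx₁⟩
  obtain ⟨a, ha, -, hBa, hr0', hr0ne, ha0, ha1⟩ := E.twin hc g₀ g₁ hnc
  set r₀ := E.v y₀ + a
  have hp0 : B Q (E.v d) r₀ = 0 := by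
    have h1 : B Q (E.v y₁) (E.v d) = 0 := (E.comm y₁ g₁ d hdx hy₁.2.1).mp hy₁.2.2.symm
    rw [B_add_r, B_symm Q _ (E.v y₀), (E.comm y₀ g₀ d hdx hy₀.2.1).mp hy₀.2.2.symm, B_symm Q _ a,
      (ha.B_zero _).mp h1, add_zero]
  have hQp := E.mem d hdx
  have hq : Q (r₀ - E.v d) = c := by rw [Q_sub, hr0', hQp, B_symm, hp0, zero_add, sub_zero]
  obtain ⟨e, he, ke⟩ := E.surj (r₀ - E.v d) hq
  have hBpe : B Q (E.v d) (r₀ - E.v d) = c := by rw [B_sub_r, hp0, B_self, hQp, zero_sub, neg_neg]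
  have hned : e ≠ d := fun h => not_pm_sub hc hQp hr0' hr0ne (by subst h; exact ke)
  have hde : ¬ Commute d e := fun h => by
    have h2 := (E.comm d hdx e he hned.symm).mp h
    rw [B_symm, ke.B_zero, B_symm, hBpe] at h2
    exact hc h2
  have hxS : x ∈ Sc D d e := ⟨hx, hx.1, fun h => he.2.1 h.symm, he.2.2.symm⟩
  have hcom : ∀ y ∈ Ds D x, Commute d y → y ≠ d → y ≠ e → (Commute e y ↔ B Q (E.v y) r₀ = 0) := by
    intro y hy h1 h2 h3
    rw [show Commute e y ↔ Commute y e from ⟨Commute.symm, Commute.symm⟩, E.comm y hy e he h3, B_symm,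
      ke.B_zero, B_symm, B_sub_r, (E.comm y hy d hdx h2).mp h1.symm, sub_zero]
  have hcy : ∀ y, y ∈ Ds D x → y ∈ Ds D d → B Q (E.v y) r₀ = 0 → Commute e y := fun y hy hyd h =>
    (hcom y hy hyd.2.2 hyd.2.1 fun h' => hde (h' ▸ hyd.2.2)).mpr h
  refine ⟨e, he.1, hde, hxS, hr, hr0, hxr, fun y hy hxy hyx => ?_⟩
  have h := link_core hD hc hd C E hde hxS g₀ g₁ hy₀ hy₁ hnc (hcy y₀ g₀ hy₀ ha0)
    (hcy y₁ g₁ hy₁ ((ha.B_zero _).mpr ha1)) ha hBa (b := s • (r - z))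
    (k₁.trans ((PM.rfl' _).smul hs0).symm) (by rw [hs, B_smul_l, B_smul_r, hzy, ← mul_assoc, sq_one s hs0, one_mul])
    hcom y hy hxy hyx
  rwa [hs, ← smul_add, show z + (r - z) = r by abel, B_smul_r, mul_eq_zero, or_iff_right hs0] at h

omit hD hd in
/-- Links are unique up to sign. -/
theorem link_unique {e x : G} (hx : x ∈ Ds D d) {r s : V n} (hr : IsLink C e x r) (hs : IsLink C e x s) :
    PM s r := by
  obtain ⟨hr1, hr2, hr3, hr4⟩ := hr
  obtain ⟨hs1, hs2, hs3, hs4⟩ := hs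
  have hξ := C.mem x hx
  have key : ∀ z, Q z = c → B Q (C.v x) z = 0 → B Q r z = 0 → B Q s z = 0 := by
    intro z hz h1 h2
    obtain ⟨y, hy, k⟩ := C.surj z hz
    have hyx : y ≠ x := by
      intro h; subst h
      have hh := (k.B_zero z).mp (by rw [← h1])
      rw [B_self, hz, neg_eq_zero] at hh
      exact hc hh
    have hxy : Commute x y := ((C.comm y hy x hx hyx).mpr ((k.B_zero _).mpr (by rw [B_symm]; exact h1))).symm
    have h3 := (hs4 y hy hxy hyx).mp ((hr4 y hy hxy hyx).mpr ((k.B_zero _).mpr (by rw [B_symm]; exact h2)))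
    rw [B_symm]
    exact (k.B_zero _).mp h3
  obtain ⟨z, hz, h1, h2⟩ := exists_norm_perp hQ hn hc hξ hr1 hr2 hr3
  have hsr : B Q r s = 0 := by
    have h4 : Q (z + r) = c := by rw [Q_add, hz, hr1, B_symm, h2, add_zero, add_zero]
    have h5 := key (z + r) h4 (by rw [B_add_r, h1, hr3, add_zero])
      (by rw [B_add_r, h2, B_self, hr1, neg_zero, add_zero])
    rw [B_add_r, key z hz h1 h2, zero_add] at h5
    rw [B_symm]; exact h5
  refine pm_of_mem_span_two hQ hc hξ hr3 hs3 hs2 ?_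
  by_contra hout
  obtain ⟨w, hw, hl, hsw⟩ := exists_norm_off hQ hout hs1 (by simp [hs3, hsr]) c
  exact hsw (key w hw (hl _ (by simp)) (hl _ (by simp)))

end Main

end CfsgFischer.Refl
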