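/-
The links of a far member at all its common partners agree.
-/
import Cfsg.Agent.Lib.Fischer.Refl.Link

set_option autoImplicit false
set_option linter.unusedSectionVars false

namespace CfsgFischer.Refl

open Cfsg CfsgThreeTrans QuadraticMap CfsgReflClass

universe u

variable {n : ℕ} {Q : QuadraticForm K (V n)} {c : K} {G : Type u} [Group G] [Finite G] {D : Set G}

theorem PM.B_zero' {u v : V n} (h : PM u v) (w : V n) : B Q w u = 0 ↔ B Q w v = 0 := by
  rw [B_symm Q w, B_symm Q w, h.B_zero]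

theorem perp_ne (hc : c ≠ 0) {u v : V n} (hu : Q u = c) (h : B Q u v = 0) : ¬ PM u v := fun e => by
  have := (e.symm.B_zero (Q := Q) u).mp (by rw [B_symm]; exact h)
  rw [B_self, hu, neg_eq_zero] at this
  exact hc this

namespace RCoord

variable {d : G} (C : RCoord D d Q c)

/-- A member with a given vector perpendicular to a given member. -/
theorem pick (hc : c ≠ 0) {x : G} (hx : x ∈ Ds D d) {z : V n} (hz : Q z = c) (h : B Q (C.v x) z = 0) :
    ∃ y ∈ Ds D d, PM (C.v y) z ∧ y ≠ x ∧ Commute x y := by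
  obtain ⟨y, hy, k⟩ := C.surj z hz
  have hne : y ≠ x := fun e => perp_ne hc (C.mem x hx) h (e ▸ k)
  exact ⟨y, hy, k, hne, ((C.comm y hy x hx hne).mpr ((k.B_zero _).mpr (by rw [B_symm]; exact h))).symm⟩

theorem comm' {x y : G} (hx : x ∈ Ds D d) (hy : y ∈ Ds D d) (h : B Q (C.v x) (C.v y) = 0) : Commute x y := by
  by_cases e : x = y
  · exact e ▸ Commute.refl x
  · exact (C.comm x hx y hy e).mpr h

theorem perp_of_comm {x y : G} (hx : x ∈ Ds D d) (hy : y ∈ Ds D d) (hne : x ≠ y) (h : Commute x y) :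
    B Q (C.v x) (C.v y) = 0 :=
  (C.comm x hx y hy hne).mp h

theorem conj_eq (hD : IsThreeTranspositionClass D) {x y k : G} (hx : x ∈ Ds D d) (hy : y ∈ Ds D d)
    (hk : k ∈ Ds D d) (h : PM (sig Q c (C.v k) (C.v x)) (C.v y)) : k * x * k⁻¹ = y :=
  C.inj _ (Ds_closed_mem hD hx hk) y hy ((C.conj x hx k hk).trans h)

end RCoord

section Main

variable (hD : IsThreeTranspositionClass D) (hQ : (polarBilin Q).Nondegenerate) (hn : 5 ≤ n) (hc : c ≠ 0)
  {d : G} (hd : d ∈ D) (C : RCoord D d Q c)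

theorem not_commute_cj {g : G} (hg : Commute g d) {e : G} (hde : ¬ Commute d e) : ¬ Commute d (g * e * g⁻¹) :=
  fun h => hde ((commute_cj_iff g).mp (by rwa [show g * d * g⁻¹ = d by rw [hg.eq, mul_inv_cancel_right]]))

include hD

theorem Sc_cj {g : G} (hg : Commute g d) {e x : G} (hx : x ∈ Sc D d e) :
    g * x * g⁻¹ ∈ Sc D d (g * e * g⁻¹) :=
  ⟨Ds_closed hD hg hx.1, by rw [← cj_Ds hD]; exact ⟨x, hx.2, rfl⟩⟩

include hc

/-- Links move with the conjugation by a partner. -/
theorem link_conj {e x k : G} {r : V n} (hx : x ∈ Ds D d) (hk : k ∈ Ds D d) (h : IsLink C e x r) :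
    IsLink C (k * e * k⁻¹) (k * x * k⁻¹) (sig Q c (C.v k) r) := by
  obtain ⟨h1, h2, h3, h4⟩ := h
  have hkv := C.mem k hk
  refine ⟨by rw [Q_sig hc hkv, h1], fun e0 => h2 ?_, ?_, fun y hy hxy hne => ?_⟩
  · rw [← sig_sig hc hkv r, e0]
    simp [sig, B_symm Q _ (0 : V n), B_zero_l]
  · exact ((C.conj x hx k hk).B_zero _).mpr (by rw [B_sig hc hkv, h3])
  · have hy' : k * y * k⁻¹ ∈ Ds D d := Ds_closed_mem hD hy hk
    have hkk : ∀ z : G, k * (k * z * k⁻¹) * k⁻¹ = z := fun z => by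
      rw [inv_self hD.1 hk.1, ← mul_assoc, ← mul_assoc, mul_self hD.1 hk.1, one_mul, mul_assoc,
        mul_self hD.1 hk.1, mul_one]
    have e1 : Commute (k * e * k⁻¹) y ↔ Commute e (k * y * k⁻¹) := by
      conv_rhs => rw [← hkk e, commute_cj_iff]
    have hxy' : Commute x (k * y * k⁻¹) := by
      have := (commute_cj_iff k).mpr hxy
      rwa [hkk] at this
    have hne' : k * y * k⁻¹ ≠ x := fun e0 => hne (by rw [← e0, hkk])
    rw [e1, h4 _ hy' hxy' hne', (C.conj y hy k hk).B_zero, ← B_sig hc hkv (sig Q c (C.v k) (C.v y)) r,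
      sig_sig hc hkv]

include hd in
/-- The conjugate by `d` has the same links. -/
theorem link_cj_self {e x : G} {r : V n} (h : IsLink C e x r) : IsLink C (d * e * d⁻¹) x r := by
  obtain ⟨h1, h2, h3, h4⟩ := h
  refine ⟨h1, h2, h3, fun y hy hxy hne => ?_⟩
  rw [← h4 y hy hxy hne]
  conv_lhs => rw [show y = d * y * d⁻¹ by rw [hy.2.2.eq, mul_inv_cancel_right], commute_cj_iff]

include hQ hn hd

/-- A far member through a common partner is determined by its link up to conjugation by `d`. -/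
theorem fibre {e e' x : G} (he : e ∈ D) (hde : ¬ Commute d e) (he' : e' ∈ D) (hde' : ¬ Commute d e')
    (hx : x ∈ Sc D d e) (hx' : x ∈ Sc D d e') {r r' : V n} (hr : IsLink C e x r) (hr' : IsLink C e' x r')
    (hrr : PM r r') : e' = e ∨ e' = d * e * d⁻¹ := by
  obtain ⟨E⟩ := C.exists_at hD hd hx.1.1
  have hdx : d ∈ Ds D x := mem_both hd hx.1
  have hex : e ∈ Ds D x := mem_both he hx.2
  have hex' : e' ∈ Ds D x := mem_both he' hx'.2
  obtain ⟨b, hb, -, hBb, h0, h0', hp0, -⟩ := E.twin hc hdx hex hde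
  obtain ⟨b', hb', -, hBb', k0, k0', kp0, -⟩ := E.twin hc hdx hex' hde'
  have mk : ∀ {f : G} {a : V n}, f ∈ Ds D x → ¬ Commute d f → PM (E.v f) a →
      ∀ y ∈ Ds D x, Commute d y → y ≠ d → (Commute f y ↔ B Q (E.v y) (E.v d + a) = 0) := by
    intro f a hf hdf ha y hy hdy hyd
    rw [show Commute f y ↔ Commute y f from ⟨Commute.symm, Commute.symm⟩,
      E.comm y hy f hf (fun e0 => hdf (e0 ▸ hdy)), B_add_r, E.perp_of_comm hy hdx hyd hdy.symm, zero_add,
      ha.B_zero']
  have L : IsLink E e d (E.v d + b) := ⟨h0, h0', hp0, mk hex hde hb⟩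
  have L' : IsLink E e d (E.v d + b') := by
    refine ⟨k0, k0', kp0, fun y hy hdy hyd => ?_⟩
    rw [← mk hex' hde' hb' y hy hdy hyd]
    have hy' : y ∈ Ds D d := ⟨hy.1, hyd, hdy⟩
    rw [hr.2.2.2 y hy' hy.2.2 hy.2.1, hr'.2.2.2 y hy' hy.2.2 hy.2.1]
    exact hrr.B_zero' _
  rcases link_unique hQ hn hc E hdx L L' with h | h
  · left
    exact E.inj e' hex' e hex (hb'.trans (PM.trans (Or.inl (add_left_cancel h)) hb.symm))
  · right
    refine E.inj e' hex' _ (Ds_closed_mem hD hex hdx) (hb'.trans ((?_ : PM b' (b - E.v d)).trans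
      (E.third_vec hc hdx hex hb hBb).symm))
    refine Or.inr ?_
    have e3 : E.v d + E.v d + E.v d = 0 := by
      ext i
      simp only [Pi.add_apply, Pi.zero_apply]
      linear_combination (E.v d i) * three_zero
    linear_combination (norm := module) h - e3

/-- Commuting common partners have the same link. -/
theorem links_commuting {e x y : G} (he : e ∈ D) (hde : ¬ Commute d e) (hx : x ∈ Sc D d e) (hy : y ∈ Sc D d e)
    (hxy : Commute x y) (hne : y ≠ x) {r s : V n} (hr : IsLink C e x r) (hs : IsLink C e y s) : PM s r := by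
  have hξ := C.mem x hx.1
  have hη := C.mem y hy.1
  have hξη : B Q (C.v x) (C.v y) = 0 := C.perp_of_comm hx.1 hy.1 hne.symm hxy
  have hηr : B Q (C.v y) r = 0 := (hr.2.2.2 y hy.1 hxy hne).mp hy.2.2.2
  have hξs : B Q (C.v x) s = 0 := (hs.2.2.2 x hx.1 hxy.symm hne.symm).mp hx.2.2.2
  have key : ∀ z, Q z = c → B Q (C.v x) z = 0 → B Q (C.v y) z = 0 → (B Q z r = 0 ↔ B Q z s = 0) := by
    intro z hz h1 h2
    obtain ⟨k, hk, kk, hkx, hxk⟩ := C.pick hc hx.1 hz h1
    have hky : k ≠ y := fun e0 => perp_ne hc hη h2 (e0 ▸ kk)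
    have hyk : Commute y k := C.comm' hy.1 hk ((kk.B_zero' _).mpr h2)
    rw [← kk.B_zero, ← kk.B_zero, ← hr.2.2.2 k hk hxk hkx, hs.2.2.2 k hk hyk hky]
  by_cases hrs : B Q r s = 0
  · refine pm_of_mem_span_three hQ hc hξ hη hξη hr.2.2.1 hηr hξs hs.2.2.1 hs.2.1 ?_
    by_contra hout
    obtain ⟨z, hz, hl, hsz⟩ := exists_norm_off hQ hout hs.1 (l := [C.v x, C.v y, r])
      (by simp [hξs, hs.2.2.1, hrs]) c
    apply hsz
    rw [B_symm]
    exact (key z hz (hl _ (by simp)) (hl _ (by simp))).mp (by rw [B_symm]; exact hl _ (by simp))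
  exfalso
  -- a vector of norm `-c` perpendicular to the first three and not to the last
  have hξr := hr.2.2.1
  have hr_out : r ∉ Submodule.span K {v : V n | v ∈ [C.v x, C.v y]} := by
    intro h
    rw [show {v : V n | v ∈ [C.v x, C.v y]} = {C.v x, C.v y} by ext v; simp, Submodule.mem_span_pair] at h
    obtain ⟨t1, t2, e0⟩ := h
    have h1 := hξr
    have h2 := hηr
    rw [← e0, B_add_r, B_smul_r, B_smul_r, hξη, B_self, hξ, mul_zero, add_zero, mul_eq_zero, neg_eq_zero] at h1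
    rw [← e0, B_add_r, B_smul_r, B_smul_r, B_symm Q (C.v y), hξη, B_self, hη, mul_zero, zero_add, mul_eq_zero,
      neg_eq_zero] at h2
    exact hr.2.1 (by rw [← e0, h1.resolve_right hc, h2.resolve_right hc, zero_smul, zero_smul, add_zero])
  obtain ⟨r', hr'0, hrr', hl⟩ := exists_partner_vec hQ hr_out hr.1 (by simp [hξr, hηr]) hc
  have hξr' : B Q (C.v x) r' = 0 := hl _ (by simp)
  have hηr' : B Q (C.v y) r' = 0 := hl _ (by simp)
  obtain ⟨a, ha, haQ⟩ := exists_orth hQ (k := 4) (by omega) ![C.v x, C.v y, r + r', r - r']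
    (fun i => by fin_cases i <;> simp [hξ, hη, hc, Q_add Q, Q_sub Q, hr.1, hr'0, hrr'])
    (fun i j hij => by
      have a1 : B Q (C.v x) (r + r') = 0 := by rw [B_add_r, hξr, hξr', add_zero]
      have a2 : B Q (C.v x) (r - r') = 0 := by rw [B_sub_r, hξr, hξr', sub_zero]
      have a3 : B Q (C.v y) (r + r') = 0 := by rw [B_add_r, hηr, hηr', add_zero]
      have a4 : B Q (C.v y) (r - r') = 0 := by rw [B_sub_r, hηr, hηr', sub_zero]
      have a5 : B Q (r + r') (r - r') = 0 := by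
        rw [B_add_l, B_sub_r, B_sub_r, B_self, B_self, hr.1, hr'0, B_symm Q r' r, hrr']; ring
      fin_cases i <;> fin_cases j <;> first
        | exact absurd rfl hij
        | exact hξη | exact a1 | exact a2 | exact a3 | exact a4 | exact a5
        | exact (B_symm Q _ _).trans hξη
        | exact (B_symm Q _ _).trans a1 | exact (B_symm Q _ _).trans a2 | exact (B_symm Q _ _).trans a3
        | exact (B_symm Q _ _).trans a4 | exact (B_symm Q _ _).trans a5)
  have hξa : B Q (C.v x) a = 0 := ha 0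
  have hηa : B Q (C.v y) a = 0 := ha 1
  have hra : B Q r a = 0 := by
    have z2 : B Q (r + r') a = 0 := ha 2
    have z3 : B Q (r - r') a = 0 := ha 3
    rw [B_add_l] at z2
    rw [B_sub_l] at z3
    linear_combination -z2 - z3 + B Q r a * three_zero
  rcases ne_zero_cases c _ hc haQ with haQ | haQ
  · have h1 := (key a haQ hξa hηa).mp (by rw [B_symm]; exact hra)
    have h2 := (key (a + r) (by rw [Q_add, haQ, hr.1, B_symm, hra, add_zero, add_zero])
      (by rw [B_add_r, hξa, hξr, add_zero]) (by rw [B_add_r, hηa, hηr, add_zero])).mp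
      (by rw [B_add_l, B_symm Q a, hra, B_self, hr.1, neg_zero, add_zero])
    rw [B_add_l, h1, zero_add] at h2
    exact hrs h2
  obtain ⟨a1, hQa1, hξa1, hηa1, hra1, hsa1⟩ : ∃ a1, Q a1 = -c ∧ B Q (C.v x) a1 = 0 ∧ B Q (C.v y) a1 = 0 ∧
      B Q r a1 = 0 ∧ B Q a1 s ≠ 0 := by
    by_cases h : B Q a s = 0
    · refine ⟨a + r, by rw [Q_add, haQ, hr.1, B_symm, hra, add_zero, add_zero],
        by rw [B_add_r, hξa, hξr, add_zero], by rw [B_add_r, hηa, hηr, add_zero],
        by rw [B_add_r, hra, B_self, hr.1, neg_zero, add_zero], ?_⟩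
      rw [B_add_l, h, zero_add]
      exact hrs
    · exact ⟨a, haQ, hξa, hηa, hra, h⟩
  -- the swap of the two members fixing `r`
  set p := a1 + (C.v x - C.v y) with hp
  set m := a1 - (C.v x - C.v y) with hm
  have hδ : Q (C.v x - C.v y) = -c := by rw [Q_sub, hξ, hη, hξη, sub_zero, add_self_neg]
  have haδ : B Q a1 (C.v x - C.v y) = 0 := by
    rw [B_sub_r, B_symm Q a1, B_symm Q a1, hξa1, hηa1, sub_zero]
  have hQp : Q p = c := by rw [hp, Q_add, hQa1, hδ, haδ, add_zero, neg_add_self]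
  have hQm : Q m = c := by rw [hm, Q_sub, hQa1, hδ, haδ, sub_zero, neg_add_self]
  have hpm0 : B Q p m = 0 := by
    rw [hp, hm, B_add_l, B_sub_r Q a1, B_sub_r Q a1 (C.v x - C.v y) (C.v x - C.v y), B_self, B_self, haδ,
      B_symm Q (C.v x - C.v y) a1, haδ, hδ, hQa1]
    ring
  have hcomp : ∀ v : V n,
      sig Q c p (sig Q c m v) = v + (-(c * B Q m v)) • m + (-(c * B Q p v)) • p := fun v => by
    simp only [sig, B_add_r, B_smul_r, hpm0, mul_zero, add_zero]
  have e3 : ∀ v : V n, v + v + v = 0 := fun v => by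
    ext i
    simp only [Pi.add_apply, Pi.zero_apply]
    linear_combination (v i) * three_zero
  have bξ : B Q a1 (C.v x) = 0 := by rw [B_symm]; exact hξa1
  have bη : B Q a1 (C.v y) = 0 := by rw [B_symm]; exact hηa1
  have bηξ : B Q (C.v y) (C.v x) = 0 := by rw [B_symm]; exact hξη
  have hg1 : sig Q c p (sig Q c m (C.v x)) = C.v y := by
    rw [hcomp, show B Q m (C.v x) = c by rw [hm, B_sub_l, B_sub_l, bξ, B_self, hξ, bηξ]; ring,
      show B Q p (C.v x) = -c by rw [hp, B_add_l, B_sub_l, bξ, B_self, hξ, bηξ]; ring, mul_neg, neg_neg,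
      sq_one c hc, hp, hm]
    linear_combination (norm := module) e3 (C.v x) - e3 (C.v y)
  have hg2 : sig Q c p (sig Q c m (C.v y)) = C.v x := by
    rw [hcomp, show B Q m (C.v y) = -c by rw [hm, B_sub_l, B_sub_l, bη, B_self, hη, hξη]; ring,
      show B Q p (C.v y) = c by rw [hp, B_add_l, B_sub_l, bη, B_self, hη, hξη]; ring, mul_neg, neg_neg,
      sq_one c hc, hp, hm]
    linear_combination (norm := module) e3 (C.v y) - e3 (C.v x)
  have hgr : sig Q c p (sig Q c m r) = r := by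
    have h1 : B Q m r = 0 := by
      rw [hm, B_sub_l, B_sub_l, B_symm Q a1, hra1, hξr, hηr, sub_zero, sub_zero]
    have h2 : B Q p r = 0 := by
      rw [hp, B_add_l, B_sub_l, B_symm Q a1, hra1, hξr, hηr, sub_zero, add_zero]
    rw [sig_fix h1, sig_fix h2]
  obtain ⟨kp, hkp, kkp⟩ := C.surj p hQp
  obtain ⟨km, hkm, kkm⟩ := C.surj m hQm
  have hx1 : km * x * km⁻¹ ∈ Ds D d := Ds_closed_mem hD hx.1 hkm
  have hgx : kp * (km * x * km⁻¹) * kp⁻¹ = y := by
    refine C.conj_eq hD hx1 hy.1 hkp (((C.conj x hx.1 km hkm).sig c _).trans ?_)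
    rw [sig_pm_left c kkp, sig_pm_left c kkm]
    exact Or.inl hg1
  have hgy : kp * (km * y * km⁻¹) * kp⁻¹ = x := by
    refine C.conj_eq hD (Ds_closed_mem hD hy.1 hkm) hx.1 hkp (((C.conj y hy.1 km hkm).sig c _).trans ?_)
    rw [sig_pm_left c kkp, sig_pm_left c kkm]
    exact Or.inl hg2
  -- the reflection exchanging the two links
  set z := r + (c * B Q r s) • s with hz
  have hQz : Q z = c := by
    rw [hz, Q_add, Q_smul, hr.1, hs.1, B_smul_r, mul_zero, zero_add, zero_add, mul_assoc, sq_one _ hrs, mul_one]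
  have hξz : B Q (C.v x) z = 0 := by rw [hz, B_add_r, B_smul_r, hξr, hξs, mul_zero, add_zero]
  have hηz : B Q (C.v y) z = 0 := by rw [hz, B_add_r, B_smul_r, hηr, hs.2.2.1, mul_zero, add_zero]
  obtain ⟨k, hk, kk, hkx, hxk⟩ := C.pick hc hx.1 hQz hξz
  have hky : Commute y k := C.comm' hy.1 hk ((kk.B_zero' _).mpr hηz)
  have hkyy : k * y * k⁻¹ = y := by rw [← hky.eq, mul_inv_cancel_right]
  have hkxx : k * x * k⁻¹ = x := by rw [← hxk.eq, mul_inv_cancel_right]
  have hzr : sig Q c (C.v k) r = (-(c * B Q r s)) • s := by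
    rw [sig_pm_left c kk, sig, hz, B_add_l, B_smul_l, B_self, hr.1, B_symm Q s r, neg_zero, zero_add, mul_assoc,
      sq_one _ hrs, mul_one, sq_one c hc]
    module
  have hεε : c * B Q r s * (c * B Q r s) = 1 := sq_one _ (mul_ne_zero hc hrs)
  have hzs : sig Q c (C.v k) s = (-(c * B Q r s)) • r := by
    rw [sig_pm_left c kk, sig, hz, B_add_l, B_smul_l, B_self, hs.1, neg_zero, mul_zero, add_zero, smul_add,
      smul_smul, neg_mul, hεε]
    module
  have hε : -(c * B Q r s) ≠ 0 := neg_ne_zero.mpr (mul_ne_zero hc hrs)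
  -- compare the two images
  have l1y : IsLink C (kp * (km * e * km⁻¹) * kp⁻¹) y r := by
    have h := link_conj hD hc C hx1 hkp (link_conj hD hc C hx.1 hkm hr)
    rw [hgx, sig_pm_left c kkp, sig_pm_left c kkm, hgr] at h
    exact h
  have l1x : IsLink C (kp * (km * e * km⁻¹) * kp⁻¹) x (sig Q c p (sig Q c m s)) := by
    have h := link_conj hD hc C (Ds_closed_mem hD hy.1 hkm) hkp (link_conj hD hc C hy.1 hkm hs)
    rw [hgy, sig_pm_left c kkp, sig_pm_left c kkm] at h
    exact h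
  have l2y : IsLink C (k * e * k⁻¹) y ((-(c * B Q r s)) • r) := by
    have h := link_conj hD hc C hy.1 hk hs
    rwa [hkyy, hzs] at h
  have l2x : IsLink C (k * e * k⁻¹) x ((-(c * B Q r s)) • s) := by
    have h := link_conj hD hc C hx.1 hk hr
    rwa [hkxx, hzr] at h
  have hgd : Commute (kp * km) d := hkp.2.2.symm.mul_left hkm.2.2.symm
  have hy1 : y ∈ Sc D d (kp * (km * e * km⁻¹) * kp⁻¹) := by
    have := Sc_cj hD hgd hx
    rwa [← cj_cj kp km x, hgx, ← cj_cj kp km e] at this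
  have hy2 : y ∈ Sc D d (k * e * k⁻¹) := by
    have := Sc_cj hD hk.2.2.symm hy
    rwa [hkyy] at this
  have hd2 : ¬ Commute d (k * e * k⁻¹) := not_commute_cj hk.2.2.symm hde
  have hd1 : ¬ Commute d (kp * (km * e * km⁻¹) * kp⁻¹) := by
    rw [cj_cj]; exact not_commute_cj hgd hde
  have hs' : PM (sig Q c p (sig Q c m s)) s := by
    refine (?_ : PM _ ((-(c * B Q r s)) • s)).trans ((PM.rfl' s).smul hε)
    rcases fibre hD hQ hn hc hd C (cls_conj hD k he) hd2 (cls_conj hD kp (cls_conj hD km he)) hd1 hy2 hy1 l2y l1y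
      ((PM.rfl' r).smul hε) with h | h
    · exact link_unique hQ hn hc C hx.1 l2x (h ▸ l1x)
    · exact link_unique hQ hn hc C hx.1 (link_cj_self hD hc hd C l2x) (h ▸ l1x)
  have hmB : B Q m s = B Q a1 s := by
    rw [hm, B_sub_l, B_sub_l, hξs, hs.2.2.1, sub_zero, sub_zero]
  have hpB : B Q p s = B Q a1 s := by
    rw [hp, B_add_l, B_sub_l, hξs, hs.2.2.1, sub_zero, add_zero]
  have himg : sig Q c p (sig Q c m s) = s + (c * B Q a1 s) • a1 := by
    rw [hcomp, hmB, hpB, hp, hm]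
    linear_combination (norm := module) (-(c * B Q a1 s)) • e3 a1
  rw [himg] at hs'
  have hcb : c * B Q a1 s ≠ 0 := mul_ne_zero hc hsa1
  rcases hs' with h | h
  · rw [add_eq_left, smul_eq_zero] at h
    rcases h with h | h
    · exact hcb h
    · rw [h, B_zero_l] at hsa1
      exact hsa1 rfl
  · have h2 : s = (c * B Q a1 s) • a1 := by
      have e3 : s + s + s = 0 := by
        ext i
        simp only [Pi.add_apply, Pi.zero_apply]
        linear_combination (s i) * three_zero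
      linear_combination (norm := module) e3 - h
    have := hs.1
    rw [h2, Q_smul, hQa1, mul_eq_zero, neg_eq_zero, mul_self_eq_zero] at this
    exact this.elim hcb hc

/-- Every common partner is perpendicular to each link. -/
theorem link_perp {e x z : G} (he : e ∈ D) (hde : ¬ Commute d e) (hx : x ∈ Sc D d e) (hz : z ∈ Sc D d e)
    {r : V n} (hr : IsLink C e x r) : B Q (C.v z) r = 0 := by
  by_cases hzx : z = x
  · exact hzx ▸ hr.2.2.1
  by_cases hcm : Commute x z
  · exact (hr.2.2.2 z hz.1 hcm hzx).mp hz.2.2.2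
  by_contra hne
  obtain ⟨u, hu, hξu, hru⟩ := exists_norm_perp hQ hn hc (C.mem x hx.1) hr.1 hr.2.1 hr.2.2.1
  obtain ⟨t, ht⟩ : ∃ t, B Q (C.v z) (u + t • r) = 0 := by
    refine ⟨-(B Q (C.v z) u * B Q (C.v z) r), ?_⟩
    rw [B_add_r, B_smul_r]
    linear_combination -(B Q (C.v z) u) * sq_one _ hne
  have hQu : Q (u + t • r) = c := by
    rw [Q_add, Q_smul, hu, hr.1, B_smul_r, B_symm, hru, mul_zero, mul_zero, add_zero, add_zero]
  obtain ⟨y, hy, ky, hyx, hxy⟩ := C.pick hc hx.1 hQu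
    (by rw [B_add_r, B_smul_r, hξu, hr.2.2.1, mul_zero, add_zero])
  have hey : Commute e y := (hr.2.2.2 y hy hxy hyx).mpr ((ky.B_zero _).mpr (by
    rw [B_add_l, B_smul_l, B_symm, hru, B_self, hr.1, neg_zero, mul_zero, add_zero]))
  have hyS : y ∈ Sc D d e := mem_Sc hde hy hey
  have hyz : y ≠ z := fun e0 => perp_ne hc (C.mem z hz.1) ht (e0 ▸ ky)
  have hzy : Commute z y := C.comm' hz.1 hy ((ky.B_zero' _).mpr ht)
  obtain ⟨s, hs⟩ := exists_link hD hQ hn hc hd C he hde hyS
  obtain ⟨s', hs'⟩ := exists_link hD hQ hn hc hd C he hde hz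
  have h1 := links_commuting hD hQ hn hc hd C he hde hx hyS hxy hyx hr hs
  have h2 := links_commuting hD hQ hn hc hd C he hde hyS hz hzy.symm hyz.symm hs hs'
  exact hne (((h2.trans h1).B_zero' _).mp hs'.2.2.1)

/-- One vector serves as the link at all common partners. -/
theorem link_all {e x z : G} (he : e ∈ D) (hde : ¬ Commute d e) (hx : x ∈ Sc D d e) (hz : z ∈ Sc D d e)
    {r : V n} (hr : IsLink C e x r) : IsLink C e z r := by
  obtain ⟨s, hs⟩ := exists_link hD hQ hn hc hd C he hde hz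
  have hperp : ∀ u, Q u = c → B Q (C.v x) u = 0 → B Q u r = 0 → B Q u s = 0 := by
    intro u hu h1 h2
    obtain ⟨y, hy, ky, hyx, hxy⟩ := C.pick hc hx.1 hu h1
    have hey : Commute e y := (hr.2.2.2 y hy hxy hyx).mpr ((ky.B_zero _).mpr h2)
    exact (ky.B_zero _).mp (link_perp hD hQ hn hc hd C he hde hz (mem_Sc hde hy hey) hs)
  have hξs : B Q (C.v x) s = 0 := link_perp hD hQ hn hc hd C he hde hz hx hs
  have hrs : B Q r s = 0 := by
    obtain ⟨u, hu, hξu, hru⟩ := exists_norm_perp hQ hn hc (C.mem x hx.1) hr.1 hr.2.1 hr.2.2.1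
    rw [B_symm] at hru
    have h1 := hperp u hu hξu hru
    have h2 := hperp (u + r) (by rw [Q_add, hu, hr.1, hru, add_zero, add_zero])
      (by rw [B_add_r, hξu, hr.2.2.1, add_zero]) (by rw [B_add_l, hru, B_self, hr.1, neg_zero, add_zero])
    rwa [B_add_l, h1, zero_add] at h2
  have hpm : PM s r := by
    refine pm_of_mem_span_two hQ hc (C.mem x hx.1) hr.2.2.1 hξs hs.2.1 ?_
    by_contra hout
    obtain ⟨u, hu, hl, hsu⟩ := exists_norm_off hQ hout hs.1 (l := [C.v x, r]) (by simp [hξs, hrs]) c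
    apply hsu
    rw [B_symm]
    exact hperp u hu (hl _ (by simp)) (by rw [B_symm]; exact hl _ (by simp))
  refine ⟨hr.1, hr.2.1, (hpm.B_zero' _).mp hs.2.2.1, fun y hy h1 h2 => ?_⟩
  rw [hs.2.2.2 y hy h1 h2, hpm.B_zero']

end Main

end CfsgFischer.Refl
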