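/-
In dimensions five and six a common set smaller than a full perpendicular class contradicts integrality.
-/
import Cfsg.Agent.Lib.Fischer.Refl.Common
import Cfsg.Agent.Lib.ThreeTrans.SrgTrace

set_option autoImplicit false
set_option linter.unusedSectionVars false

namespace CfsgFischer.Refl

open Cfsg CfsgThreeTrans QuadraticMap CfsgReflClass

universe u

variable {G : Type u} [Group G] [Finite G] {D : Set G}

theorem ncard_of_filter {α : Type*} [Fintype α] {p : α → Prop} [DecidablePred p] {j : ℕ}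
    (h : (Finset.univ.filter p).card = j) : {z | p z}.ncard = j := by
  rw [← h, ← Set.ncard_coe_finset]
  congr 1
  ext z
  simp

/-- Impossible parameters of the commuting graph. -/
theorem srg_false {k l m : ℕ} (hD : IsThreeTranspositionClass D) (hp : IsPrimitiveUnderConj D)
    (hw : ∃ a ∈ D, ∃ b ∈ D, a ≠ b ∧ Commute a b) {d : G} (hd : d ∈ D) {e : G} (he : e ∈ D)
    (hde : ¬ Commute d e) {x : G} (hx : x ∈ Ds D d) (hk : (Ds D d).ncard = k) (hl : (Sc D d x).ncard = l)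
    (hm : (Sc D d e).ncard = m) (hmk : m ≤ k)
    (hne : ∀ v : ℤ, ((k : ℤ) - m) + ((l : ℤ) - m) * k + (m : ℤ) * v = (k : ℤ) * k →
      (2 : ℤ) * k + (v - 1) * ((l : ℤ) - m) ≠ 0)
    (hns : ¬ IsSquare (((l : ℤ) - m) ^ 2 + 4 * ((k : ℤ) - m))) : False := by
  classical
  haveI := Fintype.ofFinite ↥D
  haveI : Nonempty ↥D := ⟨⟨d, hd⟩⟩
  let R : ↥D → ↥D → Prop := fun a b => (b : G) ∈ Ds D a
  have hsets : ∀ (P : ↥D → Prop) [DecidablePred P] (S : Set G), (∀ z : ↥D, P z ↔ (z : G) ∈ S) → S ⊆ D →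
      (Finset.univ.filter P).card = S.ncard := by
    intro P _ S hPS hS
    rw [← Set.ncard_coe_finset, ← Set.ncard_image_of_injective _ Subtype.val_injective]
    congr 1
    ext z
    simp only [Finset.coe_filter, Finset.mem_univ, true_and, Set.mem_image, Set.mem_setOf_eq]
    exact ⟨fun ⟨w, hw, h⟩ => h ▸ (hPS w).mp hw, fun hz => ⟨⟨z, hS hz⟩, (hPS _).mpr hz, rfl⟩⟩
  have hmove : ∀ (g a b : G), (Sc D (g * a * g⁻¹) (g * b * g⁻¹)).ncard = (Sc D a b).ncard := by
    intro g a b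
    rw [← Set.ncard_image_of_injective (Sc D a b) (cj_injective g)]
    congr 1
    rw [Sc, Sc, Set.image_inter (cj_injective g), cj_Ds hD, cj_Ds hD]
  have hreg : Srg.IsReg R k l m := by
    refine ⟨fun a b hab => mem_both a.2 hab, fun a ha => ha.2.1 rfl, fun a => ?_, fun a b hab => ?_,
      fun a b hne' hnr => ?_⟩
    · refine (hsets (fun z => R a z) (Ds D a) (fun z => Iff.rfl) (fun z hz => hz.1)).trans ?_
      obtain ⟨g, hg⟩ := cls_exists_conj hD hd a.2
      rw [← hg, ← cj_Ds hD, Set.ncard_image_of_injective _ (cj_injective g), hk]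
    · refine (hsets (fun z => R a z ∧ R b z) (Sc D a b) (fun z => Iff.rfl) (fun z hz => hz.1.1)).trans ?_
      obtain ⟨g, hg⟩ := cls_exists_conj hD hd a.2
      have hgx : g * x * g⁻¹ ∈ Ds D a := by rw [← hg, ← cj_Ds hD]; exact ⟨x, hx, rfl⟩
      obtain ⟨g', hg', hg'x⟩ := rank_three_near hD hp hw a.2 _ hgx b hab
      have hga : g' * (a : G) * g'⁻¹ = a := by rw [hg'.eq, mul_inv_cancel_right]
      rw [← hg'x]
      nth_rewrite 1 [← hga]
      rw [hmove, ← hg, hmove, hl]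
    · have hab : ¬ Commute (a : G) (b : G) := fun hc' =>
        hnr ⟨b.2, fun h => hne' (Subtype.ext h.symm), hc'⟩
      refine (hsets (fun z => R a z ∧ R b z) (Sc D a b) (fun z => Iff.rfl) (fun z hz => hz.1.1)).trans ?_
      obtain ⟨g, hg⟩ := cls_exists_conj hD hd a.2
      have hgc : g * e * g⁻¹ ∈ D := cls_conj hD g he
      have hac : ¬ Commute (a : G) (g * e * g⁻¹) := by
        rw [← hg, commute_cj_iff]
        exact hde
      rw [Sc_ncard hD hp hw a.2 hgc hac b.2 hab, ← hg, hmove, hm]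
  exact hns (Srg.discr_square' hreg hmk (hne _ (Srg.count hreg)))

/-- The form in five dimensions. -/
def f5 (x : V 5) : K := x 0 * x 0 + x 1 * x 2 + x 3 * x 4

/-- The form in six dimensions. -/
def f6 (x : V 6) : K := x 0 * x 0 + x 1 * x 2 + x 3 * x 4 - x 5 * x 5

/-- The vectors of the smallest closed set. -/
abbrev Core {n : ℕ} (i0 i1 i2 : Fin n) (x : V n) : Prop :=
  x i2 = 0 ∧ (x i0 = 0 ∨ ∃ k : K, x = Pi.single i0 1 + Pi.single i1 k ∨ x = -(Pi.single i0 1 + Pi.single i1 k))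

theorem five_all : (Finset.univ.filter fun x : V 5 => f5 x = 1).card = 90 := by decide +kernel

theorem five_perp : (Finset.univ.filter fun x : V 5 => f5 x = 1 ∧ x 0 = 0).card = 24 := by decide +kernel

theorem five_core : (Finset.univ.filter fun x : V 5 => f5 x = 1 ∧ Core 0 1 2 x).card = 12 := by decide +kernel

theorem six_all : (Finset.univ.filter fun x : V 6 => f6 x = 1).card = 234 := by decide +kernel

theorem six_perp : (Finset.univ.filter fun x : V 6 => f6 x = 1 ∧ x 0 = 0).card = 72 := by decide +kernel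

theorem six_core : (Finset.univ.filter fun x : V 6 => f6 x = 1 ∧ Core 0 1 2 x).card = 24 := by decide +kernel

variable {n : ℕ} {Q : QuadraticForm K (V n)} {c : K} {d : G} (C : RCoord D d Q c)

/-- Members correspond to pairs of opposite vectors. -/
theorem count_members (hc : c ≠ 0) (P : V n → Prop) (hP : ∀ u, P (-u) ↔ P u) :
    2 * {y | y ∈ Ds D d ∧ P (C.v y)}.ncard = {u | Q u = c ∧ P u}.ncard := by
  set Y := {y | y ∈ Ds D d ∧ P (C.v y)}
  have hinj : Set.InjOn C.v Y := fun a ha b hb h => C.inj a ha.1 b hb.1 (h ▸ PM.rfl' _)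
  have h1 : (C.v '' Y).ncard = Y.ncard := hinj.ncard_image
  have h2 : ((fun u => -u) '' (C.v '' Y)).ncard = Y.ncard := by
    rw [Set.ncard_image_of_injective _ neg_injective, h1]
  have hdis : Disjoint (C.v '' Y) ((fun u => -u) '' (C.v '' Y)) := by
    rw [Set.disjoint_left]
    rintro _ ⟨a, ha, rfl⟩ ⟨_, ⟨b, hb, rfl⟩, h⟩
    have := C.inj a ha.1 b hb.1 (Or.inr h.symm)
    subst this
    have h3 := congrArg (fun u => B Q (C.v a) u) h
    simp only [B_neg_r, B_self, C.mem a ha.1, neg_neg] at h3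
    exact hc ((by decide : ∀ c : K, c = -c → c = 0) c h3)
  have hset : {u | Q u = c ∧ P u} = C.v '' Y ∪ (fun u => -u) '' (C.v '' Y) := by
    ext u
    constructor
    · rintro ⟨hu, hPu⟩
      obtain ⟨y, hy, h | h⟩ := C.surj u hu
      · exact Or.inl ⟨y, ⟨hy, h ▸ hPu⟩, h⟩
      · exact Or.inr ⟨_, ⟨y, ⟨hy, h ▸ (hP u).mpr hPu⟩, rfl⟩, by simp [h]⟩
    · rintro (⟨y, hy, rfl⟩ | ⟨_, ⟨y, hy, rfl⟩, rfl⟩)
      · exact ⟨C.mem y hy.1, hy.2⟩
      · exact ⟨(Q_neg Q _).trans (C.mem y hy.1), (hP _).mpr hy.2⟩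
  rw [hset, Set.ncard_union_eq hdis, h1, h2, two_mul]

/-- The counts in a model force a contradiction. -/
theorem core_false {k l m : ℕ} (hD : IsThreeTranspositionClass D) (hp : IsPrimitiveUnderConj D)
    (hw : ∃ a ∈ D, ∃ b ∈ D, a ≠ b ∧ Commute a b) (hd : d ∈ D) (hc : c ≠ 0) {e x : G} (he : e ∈ D)
    (hde : ¬ Commute d e) (hx : x ∈ Ds D d) (b : Fin n → V n) (i0 i1 i2 : Fin n) {w : V n}
    (h0 : b i0 = C.v x) (h1 : b i1 = w) (hinj : ∀ z : V n, (∑ i, z i • b i) = 0 → z = 0) (f : V n → K)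
    (hf : ∀ z, Q (∑ i, z i • b i) = c * f z) (hBx : ∀ z : V n, B Q (C.v x) (∑ i, z i • b i) = 0 ↔ z i0 = 0)
    (hBw : ∀ z : V n, B Q (∑ i, z i • b i) w = 0 ↔ z i2 = 0)
    (hS : ∀ y ∈ Ds D d, Commute e y ↔
      B Q (C.v y) w = 0 ∧ (B Q (C.v x) (C.v y) = 0 ∨ ∃ t : K, PM (C.v y) (C.v x + t • w)))
    (hk : {z : V n | f z = 1}.ncard = 2 * k)
    (hl : {z : V n | f z = 1 ∧ z i0 = 0}.ncard = 2 * l)
    (hm : {z : V n | f z = 1 ∧ Core i0 i1 i2 z}.ncard = 2 * m) (hmk : m ≤ k)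
    (hne : ∀ v : ℤ, ((k : ℤ) - m) + ((l : ℤ) - m) * k + (m : ℤ) * v = (k : ℤ) * k →
      (2 : ℤ) * k + (v - 1) * ((l : ℤ) - m) ≠ 0)
    (hns : ¬ IsSquare (((l : ℤ) - m) ^ 2 + 4 * ((k : ℤ) - m))) : False := by
  classical
  set Φ := Fintype.linearCombination K b
  have hΦ : ∀ z, Φ z = ∑ i, z i • b i := fun z => Fintype.linearCombination_apply K b z
  have hΦinj : Function.Injective Φ := (injective_iff_map_eq_zero Φ).mpr fun z h => hinj z (hΦ z ▸ h)
  have hΦsur : Function.Surjective Φ := Finite.surjective_of_injective hΦinj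
  have hΦs : ∀ t : K, Φ (Pi.single i0 1 + Pi.single i1 t) = C.v x + t • w := fun t => by
    rw [map_add, Fintype.linearCombination_apply_single, Fintype.linearCombination_apply_single, h0, h1,
      one_smul]
  have tr : ∀ (P : V n → Prop) (Pm : V n → Prop) (j : ℕ),
      (∀ u, P (-u) ↔ P u) → (∀ z, P (Φ z) ↔ Pm z) → {z : V n | f z = 1 ∧ Pm z}.ncard = 2 * j →
      {y | y ∈ Ds D d ∧ P (C.v y)}.ncard = j := by
    intro P Pm j hneg hP hj
    have h2 := count_members C hc P hneg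
    have hset : {u | Q u = c ∧ P u} = Φ '' {z : V n | f z = 1 ∧ Pm z} := by
      ext u
      obtain ⟨z, rfl⟩ := hΦsur u
      rw [hΦinj.mem_set_image, Set.mem_ofPred_eq, Set.mem_ofPred_eq, hP, hΦ, hf, mul_eq_left₀ hc]
    rw [hset, Set.ncard_image_of_injective _ hΦinj, hj] at h2
    omega
  refine srg_false (k := k) (l := l) (m := m) hD hp hw hd he hde hx ?_ ?_ ?_ hmk hne hns
  · rw [← tr (fun _ => True) (fun _ => True) k (fun _ => Iff.rfl) (fun _ => Iff.rfl) (by simpa using hk)]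
    congr 1
    ext y
    simp
  · rw [← tr (fun u => B Q (C.v x) u = 0) (fun z => z i0 = 0) l (fun u => by rw [B_neg_r, neg_eq_zero])
      (fun z => by rw [hΦ]; exact hBx z) hl]
    congr 1
    ext y
    constructor
    · exact fun h => ⟨h.1, C.perp_of_comm hx h.1 (Ne.symm h.2.2.1) h.2.2.2⟩
    · rintro ⟨hy, h⟩
      refine ⟨hy, hy.1, fun h' => ?_, C.comm' hx hy h⟩
      rw [h', B_self, C.mem x hx, neg_eq_zero] at h
      exact hc h
  · rw [← tr (fun u => B Q u w = 0 ∧ (B Q (C.v x) u = 0 ∨ ∃ t : K, PM u (C.v x + t • w))) (Core i0 i1 i2) m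
      (fun u => ?_) (fun z => ?_) hm]
    · congr 1
      ext y
      rw [mem_Sc_iff hde]
      exact and_congr_right fun hy => hS y hy
    · refine and_congr (by rw [B_neg_l, neg_eq_zero]) (or_congr (by rw [B_neg_r, neg_eq_zero])
        (exists_congr fun t => ?_))
      exact ⟨fun h => (PM.neg u).symm.trans h, fun h => (PM.neg u).trans h⟩
    · refine and_congr (by rw [hΦ]; exact hBw z) (or_congr (by rw [hΦ]; exact hBx z)
        (exists_congr fun t => ?_))
      unfold PM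
      rw [← hΦs t, ← map_neg, hΦinj.eq_iff, hΦinj.eq_iff]

variable {e x : G} {w w' t t' : V n}

/-- The frame with its products. -/
structure Frame (Q : QuadraticForm K (V n)) (c : K) (ξ w w' t t' : V n) : Prop where
  hξ : Q ξ = c
  hw : Q w = 0
  hw' : Q w' = 0
  ht : Q t = 0
  ht' : Q t' = 0
  ww' : B Q w w' = c
  tt' : B Q t t' = c
  ξw : B Q ξ w = 0
  ξw' : B Q ξ w' = 0
  ξt : B Q ξ t = 0
  ξt' : B Q ξ t' = 0
  wt : B Q w t = 0
  wt' : B Q w t' = 0
  w't : B Q w' t = 0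
  w't' : B Q w' t' = 0

theorem five_false {Q : QuadraticForm K (V 5)} {C : RCoord D d Q c} (hD : IsThreeTranspositionClass D)
    (hp : IsPrimitiveUnderConj D) (hwd : ∃ a ∈ D, ∃ b ∈ D, a ≠ b ∧ Commute a b) (hd : d ∈ D) (hc : c ≠ 0)
    (he : e ∈ D) (hde : ¬ Commute d e) (hx : x ∈ Ds D d) {w w' t t' : V 5}
    (F : Frame Q c (C.v x) w w' t t')
    (hS : ∀ y ∈ Ds D d, Commute e y ↔
      B Q (C.v y) w = 0 ∧ (B Q (C.v x) (C.v y) = 0 ∨ ∃ t : K, PM (C.v y) (C.v x + t • w))) : False := by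
  obtain ⟨hξ, hw, hw', ht, ht', ww', tt', ξw, ξw', ξt, ξt', wt, wt', w't, w't'⟩ := F
  let b : Fin 5 → V 5 := ![C.v x, w, w', t, t']
  have hsum : ∀ z : V 5, (∑ i, z i • b i) =
      z 0 • C.v x + z 1 • w + z 2 • w' + z 3 • t + z 4 • t' := fun z => by
    rw [Fin.sum_univ_five]; rfl
  have hBx : ∀ z : V 5, B Q (C.v x) (∑ i, z i • b i) = -(z 0 * c) := fun z => by
    simp only [hsum, B_add_r, B_smul_r, B_self, hξ, ξw, ξw', ξt, ξt']; ring
  have hBw : ∀ z : V 5, B Q w (∑ i, z i • b i) = z 2 * c := fun z => by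
    simp only [hsum, B_add_r, B_smul_r, B_symm Q w (C.v x), ξw, B_self, hw, ww', wt, wt']; ring
  refine core_false C (k := 45) (l := 12) (m := 6) hD hp hwd hd hc he hde hx b 0 1 2 (w := w) rfl rfl (fun z h => ?_) f5
    (fun z => ?_) (fun z => by rw [hBx, neg_eq_zero, mul_eq_zero, or_iff_left hc])
    (fun z => by rw [B_symm, hBw, mul_eq_zero, or_iff_left hc]) hS (ncard_of_filter five_all) (ncard_of_filter five_perp) (ncard_of_filter five_core) (by norm_num)
    (fun v h => by omega) ?_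
  · have g : ∀ u, B Q u (∑ i, z i • b i) = 0 := fun u => by rw [h, B_symm, B_zero_l]
    have g0 := g (C.v x)
    have g2 := g w
    have g1 := g w'
    have g4 := g t
    have g3 := g t'
    rw [hBx, neg_eq_zero] at g0
    rw [hBw] at g2
    simp only [hsum, B_add_r, B_smul_r, B_symm Q w' (C.v x), B_symm Q w' w, B_self, hw', ξw', ww', w't, w't',
      B_symm Q t (C.v x), B_symm Q t w, B_symm Q t w', B_symm Q t' (C.v x), B_symm Q t' w, B_symm Q t' w',
      B_symm Q t' t, ht, ht', ξt, ξt', wt, wt', tt', neg_zero, mul_zero, add_zero, zero_add] at g1 g3 g4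
    funext i
    fin_cases i
    · exact (mul_eq_zero.mp g0).resolve_right hc
    · exact (mul_eq_zero.mp g1).resolve_right hc
    · exact (mul_eq_zero.mp g2).resolve_right hc
    · exact (mul_eq_zero.mp g3).resolve_right hc
    · exact (mul_eq_zero.mp g4).resolve_right hc
  · simp only [hsum, Q_add Q, Q_smul, B_add_l, B_smul_l, B_smul_r, hξ, hw, hw', ht, ht', ww', tt', ξw, ξw', ξt,
      ξt', wt, wt', w't, w't', f5]
    ring
  · rintro ⟨r, hr⟩
    norm_num at hr
    have h1 : r ≤ 14 := by nlinarith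
    have h2 : -14 ≤ r := by nlinarith
    interval_cases r <;> norm_num at hr

theorem six_false {Q : QuadraticForm K (V 6)} {C : RCoord D d Q c} (hD : IsThreeTranspositionClass D)
    (hp : IsPrimitiveUnderConj D) (hwd : ∃ a ∈ D, ∃ b ∈ D, a ≠ b ∧ Commute a b) (hd : d ∈ D) (hc : c ≠ 0)
    (he : e ∈ D) (hde : ¬ Commute d e) (hx : x ∈ Ds D d) {w w' t t' : V 6}
    (F : Frame Q c (C.v x) w w' t t') {l : V 6} (hl : Q l = -c) (ξl : B Q (C.v x) l = 0) (wl : B Q w l = 0)
    (w'l : B Q w' l = 0) (tl : B Q t l = 0) (t'l : B Q t' l = 0)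
    (hS : ∀ y ∈ Ds D d, Commute e y ↔
      B Q (C.v y) w = 0 ∧ (B Q (C.v x) (C.v y) = 0 ∨ ∃ t : K, PM (C.v y) (C.v x + t • w))) : False := by
  obtain ⟨hξ, hw, hw', ht, ht', ww', tt', ξw, ξw', ξt, ξt', wt, wt', w't, w't'⟩ := F
  let b : Fin 6 → V 6 := ![C.v x, w, w', t, t', l]
  have hsum : ∀ z : V 6, (∑ i, z i • b i) =
      z 0 • C.v x + z 1 • w + z 2 • w' + z 3 • t + z 4 • t' + z 5 • l := fun z => by
    rw [Fin.sum_univ_six]; rfl
  have hBx : ∀ z : V 6, B Q (C.v x) (∑ i, z i • b i) = -(z 0 * c) := fun z => by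
    simp only [hsum, B_add_r, B_smul_r, B_self, hξ, ξw, ξw', ξt, ξt', ξl]; ring
  have hBw : ∀ z : V 6, B Q w (∑ i, z i • b i) = z 2 * c := fun z => by
    simp only [hsum, B_add_r, B_smul_r, B_symm Q w (C.v x), ξw, B_self, hw, ww', wt, wt', wl]; ring
  refine core_false C (k := 117) (l := 36) (m := 12) hD hp hwd hd hc he hde hx b 0 1 2 (w := w) rfl rfl (fun z h => ?_) f6
    (fun z => ?_) (fun z => by rw [hBx, neg_eq_zero, mul_eq_zero, or_iff_left hc])
    (fun z => by rw [B_symm, hBw, mul_eq_zero, or_iff_left hc]) hS (ncard_of_filter six_all) (ncard_of_filter six_perp) (ncard_of_filter six_core) (by norm_num)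
    (fun v h => by omega) ?_
  · have g : ∀ u, B Q u (∑ i, z i • b i) = 0 := fun u => by rw [h, B_symm, B_zero_l]
    have g0 := g (C.v x)
    have g2 := g w
    have g1 := g w'
    have g4 := g t
    have g3 := g t'
    have g5 := g l
    rw [hBx, neg_eq_zero] at g0
    rw [hBw] at g2
    simp only [hsum, B_add_r, B_smul_r, B_symm Q w' (C.v x), B_symm Q w' w, B_self, hw', ξw', ww', w't, w't',
      B_symm Q t (C.v x), B_symm Q t w, B_symm Q t w', B_symm Q t' (C.v x), B_symm Q t' w, B_symm Q t' w',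
      B_symm Q t' t, B_symm Q l (C.v x), B_symm Q l w, B_symm Q l w', B_symm Q l t, B_symm Q l t', hl, ξl, wl,
      w'l, tl, t'l, ht, ht', ξt, ξt', wt, wt', tt', neg_zero, neg_neg, mul_zero, add_zero, zero_add] at g1 g3 g4 g5
    funext i
    fin_cases i
    · exact (mul_eq_zero.mp g0).resolve_right hc
    · exact (mul_eq_zero.mp g1).resolve_right hc
    · exact (mul_eq_zero.mp g2).resolve_right hc
    · exact (mul_eq_zero.mp g3).resolve_right hc
    · exact (mul_eq_zero.mp g4).resolve_right hc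
    · exact (mul_eq_zero.mp g5).resolve_right hc
  · simp only [hsum, Q_add Q, Q_smul, B_add_l, B_smul_l, B_smul_r, hξ, hw, hw', ht, ht', hl, ww', tt', ξw, ξw',
      ξt, ξt', ξl, wt, wt', wl, w't, w't', w'l, tl, t'l, f6]
    ring
  · rintro ⟨r, hr⟩
    norm_num at hr
    have h1 : r ≤ 32 := by nlinarith
    have h2 : -32 ≤ r := by nlinarith
    interval_cases r <;> norm_num at hr

end CfsgFischer.Refl
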