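/-
The common set of a far pair is a full perpendicular class of a singular vector.
-/
import Cfsg.Agent.Lib.Fischer.Refl.Small

set_option autoImplicit false
set_option linter.unusedSectionVars false

namespace CfsgFischer.Refl

open Cfsg CfsgThreeTrans QuadraticMap CfsgReflClass

universe u

variable {n : ℕ} {Q : QuadraticForm K (V n)} {c : K} {G : Type u} [Group G] [Finite G] {D : Set G} {d : G}

/-- The singular vector whose perpendicular members are the partners commuting with `e`. -/
def IsPoint (C : RCoord D d Q c) (e : G) (w : V n) : Prop :=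
  Q w = 0 ∧ w ≠ 0 ∧ ∀ y ∈ Ds D d, (Commute e y ↔ B Q (C.v y) w = 0)

theorem triple_zero (v : V n) : v + v + v = 0 := by
  ext i
  simp only [Pi.add_apply, Pi.zero_apply]
  linear_combination (v i) * three_zero

/-- A far member has a singular vector describing its common partners. -/
theorem exists_point (hD : IsThreeTranspositionClass D) (hp : IsPrimitiveUnderConj D)
    (hwd : ∃ a ∈ D, ∃ b ∈ D, a ≠ b ∧ Commute a b) (hQ : (polarBilin Q).Nondegenerate) (hn : 5 ≤ n) (hc : c ≠ 0)
    (hd : d ∈ D) (C : RCoord D d Q c) {e : G} (he : e ∈ D) (hde : ¬ Commute d e) : ∃ w, IsPoint C e w := by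
  classical
  obtain ⟨x, hx⟩ : ∃ x, x ∈ Sc D d e := exists_common hD hp hwd hd he hde
  obtain ⟨w, hw⟩ := exists_link hD hQ hn hc hd C he hde hx
  have hlink : ∀ z ∈ Sc D d e, IsLink C e z w := fun z hz => link_all hD hQ hn hc hd C he hde hx hz hw
  obtain ⟨hw0, hwne, hξw, hwiff⟩ := hw
  refine ⟨w, hw0, hwne, fun a ha => ⟨fun h => (hlink a (mem_Sc hde ha h)).2.2.1, fun haw => ?_⟩⟩
  by_contra hea
  have hxa : x ≠ a := fun h => hea (h ▸ hx.2.2.2)
  have hnc : ¬ Commute x a := fun h => hea ((hwiff a ha h hxa.symm).mpr haw)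
  obtain ⟨b, hb, hQb, hξb, hQt, htne, hξt, hbt⟩ := C.twin hc hx.1 ha hnc
  have hξ := C.mem x hx.1
  have hbw : B Q b w = 0 := (hb.B_zero w).mp haw
  set t := C.v x + b with ht
  have htw : B Q t w = 0 := by rw [ht, B_add_l, hξw, hbw, add_zero]
  have hwt : B Q w t = 0 := by rw [B_symm]; exact htw
  let InS : V n → Prop := fun u => ∃ y ∈ Sc D d e, PM (C.v y) u
  have mk0 : ∀ u, Q u = c → B Q (C.v x) u = 0 → B Q u w = 0 → InS u := by
    intro u hu h1 h2
    obtain ⟨y, hy, ky, hyx, hxy⟩ := C.pick hc hx.1 hu h1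
    exact ⟨y, mem_Sc hde hy ((hwiff y hy hxy hyx).mpr ((ky.B_zero w).mpr h2)), ky⟩
  have mk1 : ∀ u z, Q u = c → B Q u w = 0 → Q z = c → B Q (C.v x) z = 0 → B Q z w = 0 → B Q z u = 0 →
      InS u := by
    intro u z hu h1 hz h2 h3 h4
    obtain ⟨y, hy, ky⟩ := mk0 z hz h2 h3
    obtain ⟨k, hk, kk, hky, hyk⟩ := C.pick hc hy.1 hu ((ky.B_zero u).mpr h4)
    exact ⟨k, mem_Sc hde hk (((hlink y hy).2.2.2 k hk hyk hky).mpr ((kk.B_zero w).mpr h1)), kk⟩
  have hnoa : ¬ InS b := by
    rintro ⟨y, hy, ky⟩
    exact hea (C.inj y hy.1 a ha (ky.trans hb.symm) ▸ hy.2.2.2)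
  have hno : ∀ z, Q z = c → B Q (C.v x) z = 0 → B Q z w = 0 → B Q z t ≠ 0 := by
    intro z hz h1 h2 h3
    refine hnoa (mk1 b z hQb hbw hz h1 h2 ?_)
    rw [ht, B_add_r, B_symm Q z (C.v x), h1, zero_add] at h3
    exact h3
  obtain ⟨z₀, hz₀, hξz₀, hwz₀⟩ := exists_norm_perp hQ hn hc hξ hw0 hwne hξw
  rw [B_symm] at hwz₀
  have htpm : ¬ PM t w := fun h => hno z₀ hz₀ hξz₀ hwz₀ ((h.B_zero' z₀).mpr hwz₀)
  have hlift : ∀ k : K, InS (C.v x + k • w) := fun k =>
    mk1 _ z₀ (by rw [Q_add, Q_smul, hξ, hw0, B_smul_r, hξw, mul_zero, mul_zero, add_zero, add_zero])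
      (by rw [B_add_l, B_smul_l, hξw, B_self, hw0, neg_zero, mul_zero, add_zero]) hz₀ hξz₀ hwz₀
      (by rw [B_add_r, B_smul_r, B_symm Q z₀ (C.v x), hξz₀, hwz₀, mul_zero, add_zero])
  have hneg : ∀ u, InS u → InS (-u) := fun u ⟨y, hy, ky⟩ => ⟨y, hy, ky.trans (PM.neg u).symm⟩
  have hσ : ∀ u u', InS u → InS u' → InS (sig Q c u u') := by
    rintro u u' ⟨y, hy, ky⟩ ⟨y', hy', ky'⟩
    refine ⟨_, Sc_closed hD hy' hy, (C.conj y' hy'.1 y hy.1).trans ((ky'.sig c _).trans (Or.inl ?_))⟩
    exact sig_pm_left c ky u'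
  have hX : InS (C.v x) := ⟨x, hx, PM.rfl' _⟩
  have hbT : b = t - C.v x := by rw [ht, add_sub_cancel_left]
  have hS : ∀ y ∈ Ds D d, Commute e y ↔
      B Q (C.v y) w = 0 ∧ (B Q (C.v x) (C.v y) = 0 ∨ ∃ k : K, PM (C.v y) (C.v x + k • w)) := by
    intro y hy
    constructor
    · intro hey
      have hyS := mem_Sc hde hy hey
      refine ⟨(hlink y hyS).2.2.1, ?_⟩
      by_cases hξy : B Q (C.v x) (C.v y) = 0
      · exact Or.inl hξy
      right
      by_cases hxy : x = y
      · exact ⟨0, by rw [zero_smul, add_zero, hxy]; exact PM.rfl' _⟩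
      obtain ⟨b', hb', hQb', hξb', hQs, hsne, hξs, hbs⟩ :=
        C.twin hc hx.1 hy fun h => hξy (C.perp_of_comm hx.1 hy hxy h)
      have hb'w : B Q b' w = 0 := (hb'.B_zero w).mp (hlink y hyS).2.2.1
      set s := C.v x + b' with hsdef
      have hsw : B Q s w = 0 := by rw [hsdef, B_add_l, hξw, hb'w, add_zero]
      by_cases hpm : PM s w
      · rcases hpm with h | h
        · refine ⟨-1, hb'.trans (Or.inr ?_)⟩
          rw [hsdef] at h
          linear_combination (norm := module) h
        · refine ⟨1, hb'.trans (Or.inr ?_)⟩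
          rw [hsdef] at h
          linear_combination (norm := module) h
      exfalso
      have hb'S : InS b' := ⟨y, hyS, hb'⟩
      have hb'T : b' = s - C.v x := by rw [hsdef, add_sub_cancel_left]
      apply hnoa
      by_cases hst : B Q s t = 0
      · have hspan : s ∈ Submodule.span K {v : V n | v ∈ [C.v x, t, w]} := by
          by_contra hout
          obtain ⟨z, hz, hl, -⟩ := exists_norm_off hQ hout hQs (l := [C.v x, t, w])
            (by simp [hξs, B_symm Q t s, hst, B_symm Q w s, hsw]) c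
          exact hno z hz (hl _ (by simp)) (by rw [B_symm]; exact hl _ (by simp))
            (by rw [B_symm]; exact hl _ (by simp))
        rw [show {v : V n | v ∈ [C.v x, t, w]} = insert (C.v x) {t, w} by ext v; simp,
          Submodule.mem_span_insert] at hspan
        obtain ⟨α, z, hz, hsz⟩ := hspan
        obtain ⟨ε, k, rfl⟩ := Submodule.mem_span_pair.mp hz
        have hα : α = 0 := by
          have h := hξs
          rw [hsz, B_add_r, B_add_r, B_smul_r, B_smul_r, B_smul_r, B_self, hξ, hξt, hξw, mul_zero, mul_zero,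
            add_zero, add_zero, mul_eq_zero, neg_eq_zero] at h
          exact h.resolve_right hc
        rw [hα, zero_smul, zero_add] at hsz
        have hshift : ∀ j : K, InS (t + j • w - C.v x) → InS (t + (j + 1) • w - C.v x) := by
          intro j hj
          have h := hσ _ _ (hlift 1) (hσ _ _ hX hj)
          have e1 : sig Q c (C.v x) (t + j • w - C.v x) = t + j • w + C.v x := by
            rw [sig, B_sub_r, B_add_r, B_smul_r, hξt, hξw, B_self, hξ, mul_zero, add_zero, zero_sub, neg_neg,
              sq_one c hc, neg_one_smul]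
            linear_combination (norm := module) -triple_zero (C.v x)
          have e2 : sig Q c (C.v x + (1 : K) • w) (t + j • w + C.v x) = t + (j + 1) • w - C.v x := by
            simp only [sig, B_add_l, B_add_r, B_smul_l, B_smul_r, hξt, hξw, hwt, B_symm Q w (C.v x), B_self, hξ,
              hw0, neg_zero, mul_zero, add_zero, zero_add, mul_neg, neg_neg, sq_one c hc, one_smul]
            linear_combination (norm := module) triple_zero (C.v x)
          rwa [e1, e2] at h
        obtain ⟨j, hj⟩ : ∃ j : K, InS (t + j • w - C.v x) := by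
          rcases three_cases 1 ε one_ne_zero with rfl | rfl | rfl
          · rw [zero_smul, zero_add] at hsz
            refine absurd ?_ hpm
            rw [hsz]
            exact (PM.rfl' w).smul fun h => hsne (by rw [hsz, h, zero_smul])
          · exact ⟨k, by rw [hb'T, hsz, one_smul] at hb'S; exact hb'S⟩
          · refine ⟨-k, ?_⟩
            have h := hneg _ (hσ _ _ hX hb'S)
            rw [sig, hξb', sq_one c hc, neg_one_smul, hb'T, hsz] at h
            convert h using 1
            linear_combination (norm := module) -triple_zero (C.v x)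
        have h0 : InS (t + (0 : K) • w - C.v x) := by
          rcases three_cases 1 j one_ne_zero with rfl | rfl | rfl
          · exact hj
          · rw [show (0 : K) = 1 + 1 + 1 by decide]
            exact hshift _ (hshift _ hj)
          · simpa using hshift _ hj
        rwa [zero_smul, add_zero, ← hbT] at h0
      · set z := s + (c * B Q s t) • t with hz
        have hQz : Q z = c := by
          rw [hz, Q_add, Q_smul, hQs, hQt, B_smul_r, mul_zero, zero_add, zero_add, mul_assoc, sq_one _ hst,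
            mul_one]
        have hzS : InS z := mk0 z hQz
          (by rw [hz, B_add_r, B_smul_r, hξs, hξt, mul_zero, add_zero])
          (by rw [hz, B_add_l, B_smul_l, hsw, htw, mul_zero, add_zero])
        have h := hσ _ _ hzS hb'S
        have hBzb : B Q z b' = c := by
          rw [hb'T, hz]
          simp only [B_add_l, B_sub_r, B_smul_l, B_self, hQs, B_symm Q s (C.v x), B_symm Q t (C.v x), hξs, hξt,
            B_symm Q t s, neg_zero, zero_add, mul_zero, sub_zero]
          rw [mul_assoc, sq_one _ hst, mul_one]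
        rw [sig, hBzb, sq_one c hc, neg_one_smul, hz, hb'T] at h
        rcases ne_zero_cases 1 _ one_ne_zero (mul_ne_zero hc hst) with hε | hε <;> rw [hε] at h
        · have h' := hneg _ (hσ _ _ hX h)
          have e1 : s - C.v x + -(s + (1 : K) • t) = -(C.v x + t) := by module
          rw [e1, sig, B_neg_r, B_add_r, B_self, hξ, hξt, add_zero, neg_neg, sq_one c hc, neg_one_smul] at h'
          rw [hbT]
          convert h' using 1
          linear_combination (norm := module) -triple_zero (C.v x)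
        · rw [hbT]
          convert h using 1
          module
    · rintro ⟨hyw, h | ⟨k, hk⟩⟩
      · by_cases hyx : y = x
        · exact hyx ▸ hx.2.2.2
        exact (hwiff y hy (C.comm' hx.1 hy h) hyx).mpr hyw
      · obtain ⟨y', hy', ky'⟩ := hlift k
        exact C.inj y' hy'.1 y hy (ky'.trans hk.symm) ▸ hy'.2.2.2
  -- a frame around the three vectors
  have htout : w ∉ Submodule.span K {v : V n | v ∈ [C.v x, t]} := fun h =>
    htpm (pm_of_mem_span_two hQ hc hξ hξt hξw hwne h).symm
  obtain ⟨w', hw'0, hww', hlw⟩ := exists_partner_vec hQ htout hw0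
    (by simp [hξw, htw]) hc
  have hξw' : B Q (C.v x) w' = 0 := hlw _ (by simp)
  have htw' : B Q t w' = 0 := hlw _ (by simp)
  have htout' : t ∉ Submodule.span K {v : V n | v ∈ [C.v x, w, w']} := by
    intro h
    rw [show {v : V n | v ∈ [C.v x, w, w']} = insert (C.v x) {w, w'} by ext v; simp,
      Submodule.mem_span_insert] at h
    obtain ⟨α, z, hz, htz⟩ := h
    obtain ⟨β, γ, rfl⟩ := Submodule.mem_span_pair.mp hz
    have h1 := hξt
    rw [htz, B_add_r, B_add_r, B_smul_r, B_smul_r, B_smul_r, B_self, hξ, hξw, hξw', mul_zero, mul_zero,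
      add_zero, add_zero, mul_eq_zero, neg_eq_zero] at h1
    have h2 := hwt
    rw [htz, B_add_r, B_add_r, B_smul_r, B_smul_r, B_smul_r, B_symm Q w (C.v x), hξw, B_self, hw0, hww',
      neg_zero, mul_zero, mul_zero, zero_add, zero_add, mul_eq_zero] at h2
    rw [h1.resolve_right hc, h2.resolve_right hc, zero_smul, zero_smul, zero_add, add_zero] at htz
    exact htpm (htz ▸ (PM.rfl' w).smul fun h' => htne (by rw [htz, h', zero_smul]))
  obtain ⟨t', ht'0, htt', hlt⟩ := exists_partner_vec hQ htout' hQt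
    (by simp [hξt, hwt, B_symm Q w' t, htw']) hc
  have hξt' : B Q (C.v x) t' = 0 := hlt _ (by simp)
  have hwt' : B Q w t' = 0 := hlt _ (by simp)
  have hw't' : B Q w' t' = 0 := hlt _ (by simp)
  have hw't : B Q w' t = 0 := by rw [B_symm]; exact htw'
  have F : Frame Q c (C.v x) w w' t t' :=
    ⟨hξ, hw0, hw'0, hQt, ht'0, hww', htt', hξw, hξw', hξt, hξt', hwt, hwt', hw't, hw't'⟩
  by_cases h5 : n = 5
  · subst h5
    exact five_false hD hp hwd hd hc he hde hx.1 F hS
  let fr : Fin 5 → V n := ![C.v x, w + w', w - w', t + t', t - t']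
  have hfr : ∀ i, Q (fr i) ≠ 0 := fun i => by
    fin_cases i <;> simp [fr, hξ, hc, Q_add Q, Q_sub Q, hw0, hw'0, hQt, ht'0, hww', htt']
  have horth : ∀ i j, i ≠ j → B Q (fr i) (fr j) = 0 := by
    intro i j hij
    fin_cases i <;> fin_cases j <;> first
      | exact absurd rfl hij
      | (simp only [fr, Fin.zero_eta, Fin.mk_one, Fin.reduceFinMk, Matrix.cons_val_zero, Matrix.cons_val_one,
          Matrix.cons_val, B_add_l, B_add_r, B_sub_l, B_sub_r, B_symm Q w (C.v x), B_symm Q w' (C.v x),
          B_symm Q t (C.v x), B_symm Q t' (C.v x), B_symm Q w' w, B_symm Q t w, B_symm Q t' w, B_symm Q t w',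
          B_symm Q t' w', B_symm Q t' t, B_self, hξw, hξw', hξt, hξt', hww', htt', hwt, hwt', hw't, hw't', hw0,
          hw'0, hQt, ht'0]; ring)
  have hsplit : ∀ z, (∀ i, B Q (fr i) z = 0) →
      B Q (C.v x) z = 0 ∧ B Q w z = 0 ∧ B Q w' z = 0 ∧ B Q t z = 0 ∧ B Q t' z = 0 := by
    intro z hz
    have z1 : B Q (w + w') z = 0 := hz 1
    have z2 : B Q (w - w') z = 0 := hz 2
    have z3 : B Q (t + t') z = 0 := hz 3
    have z4 : B Q (t - t') z = 0 := hz 4
    rw [B_add_l] at z1 z3
    rw [B_sub_l] at z2 z4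
    refine ⟨hz 0, ?_, ?_, ?_, ?_⟩
    · linear_combination -z1 - z2 + B Q w z * three_zero
    · linear_combination -z1 + z2 + B Q w' z * three_zero
    · linear_combination -z3 - z4 + B Q t z * three_zero
    · linear_combination -z3 + z4 + B Q t' z * three_zero
  by_cases h6 : n = 6
  · subst h6
    obtain ⟨l, hl, hlQ⟩ := exists_orth hQ (k := 5) (by omega) fr hfr horth
    obtain ⟨h0, h1, h2, h3, h4⟩ := hsplit l hl
    rcases ne_zero_cases c _ hc hlQ with hlQ | hlQ
    · exact hno l hlQ h0 (by rw [B_symm]; exact h1) (by rw [B_symm]; exact h3)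
    · exact six_false hD hp hwd hd hc he hde hx.1 F hlQ h0 h1 h2 h3 h4 hS
  · obtain ⟨l, hl, hlQ⟩ := exists_orth_norm hQ (k := 5) (by omega) fr hfr horth hc
    obtain ⟨h0, h1, -, h3, -⟩ := hsplit l hl
    exact hno l hlQ h0 (by rw [B_symm]; exact h1) (by rw [B_symm]; exact h3)

end CfsgFischer.Refl
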