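/-
The far members over the singular lines, two over each.
-/
import Cfsg.Agent.Lib.Fischer.Refl.Point

set_option autoImplicit false
set_option linter.unusedSectionVars false

namespace CfsgFischer.Refl

open Cfsg CfsgThreeTrans QuadraticMap CfsgReflClass

universe u

variable {n : ℕ} {G : Type u} [Group G] [Finite G] {D : Set G} {d : G}

/-- The standing hypotheses. -/
structure Hyp (D : Set G) (d : G) (Q : QuadraticForm K (V n)) (c : K) : Prop where
  hD : IsThreeTranspositionClass D
  hp : IsPrimitiveUnderConj D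
  hw : ∃ a ∈ D, ∃ b ∈ D, a ≠ b ∧ Commute a b
  hQ : (polarBilin Q).Nondegenerate
  hn : 5 ≤ n
  hc : c ≠ 0
  hd : d ∈ D

/-- Two commuting members both moving a third one. -/
theorem far_commute (hD : IsThreeTranspositionClass D) {a b e : G} (ha : a ∈ D) (hb : b ∈ D) (he : e ∈ D)
    (hab : Commute a b) (hae : ¬ Commute a e) (hbe : ¬ Commute b e) :
    Commute (a * (b * e * b⁻¹) * a⁻¹) e := by
  have ma := mul_self hD.1 ha
  have me := mul_self hD.1 he
  have bea := braid hD.1 ha he hae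
  have beb := braid hD.1 hb he hbe
  have key : e * (a * b * e * b * a) * e = a * b * e * b * a := by
    have e1 : a * b * e * b * a = a * e * b * e * a := by
      calc a * b * e * b * a = a * (b * e * b) * a := by simp only [mul_assoc]
        _ = a * (e * b * e) * a := by rw [beb]
        _ = a * e * b * e * a := by simp only [mul_assoc]
    have e2 : a * b * a = b := by rw [hab.eq, mul_assoc, ma, mul_one]
    calc e * (a * b * e * b * a) * e = (e * a * e) * b * (e * a * e) := by
          rw [e1]; simp only [mul_assoc]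
      _ = (a * e * a) * b * (a * e * a) := by rw [bea]
      _ = a * e * (a * b * a) * e * a := by simp only [mul_assoc]
      _ = a * b * e * b * a := by rw [e2, e1]
  have e3 : a * (b * e * b⁻¹) * a⁻¹ = a * b * e * b * a := by
    rw [inv_self hD.1 ha, inv_self hD.1 hb]; simp only [mul_assoc]
  rw [e3]
  calc a * b * e * b * a * e = e * (a * b * e * b * a) * e * e := by rw [key]
    _ = e * (a * b * e * b * a) := by rw [mul_assoc, me, mul_one]

theorem third_swap (hD : IsThreeTranspositionClass D) {a b : G} (ha : a ∈ D) (hb : b ∈ D) (h : ¬ Commute a b) :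
    a * b * a⁻¹ = b * a * b⁻¹ := by
  rw [inv_self hD.1 ha, inv_self hD.1 hb, braid hD.1 ha hb h]

theorem third_back (hD : IsThreeTranspositionClass D) {a b : G} (ha : a ∈ D) (hb : b ∈ D) (h : ¬ Commute a b) :
    b * (a * b * a⁻¹) * b⁻¹ = a := by
  rw [third_swap hD ha hb h, inv_self hD.1 hb, ← mul_assoc, ← mul_assoc, mul_self hD.1 hb, one_mul, mul_assoc,
    mul_self hD.1 hb, mul_one]

theorem third_not_commute (hD : IsThreeTranspositionClass D) {a b : G} (ha : a ∈ D) (hb : b ∈ D)
    (h : ¬ Commute a b) : ¬ Commute b (a * b * a⁻¹) := by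
  intro hc
  have h1 := third_back hD ha hb h
  rw [hc.eq, mul_inv_cancel_right] at h1
  rw [inv_self hD.1 ha] at h1
  have h2 : a * b = 1 := by
    have := congrArg (· * a) h1
    simp only [mul_assoc, mul_self hD.1 ha, mul_one] at this
    exact this
  exact h (by rw [show b = a⁻¹ from eq_inv_of_mul_eq_one_right h2]; exact (Commute.refl a).inv_right)

variable {Q : QuadraticForm K (V n)} {c : K} (C : RCoord D d Q c)

theorem IsPoint.pm {e : G} {w w' : V n} (h : IsPoint C e w) (h' : PM w' w) : IsPoint C e w' := by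
  refine ⟨h'.Q_eq.trans h.1, fun h0 => h.2.1 ?_, fun y hy => (h.2.2 y hy).trans (h'.B_zero' _).symm⟩
  rcases h'.symm with e0 | e0 <;> rw [e0, h0]
  exact neg_zero

theorem IsPoint.link {e x : G} {w : V n} (h : IsPoint C e w) (hx : x ∈ Sc D d e) : IsLink C e x w :=
  ⟨h.1, h.2.1, (h.2.2 x hx.1).mp hx.2.2.2, fun y hy _ _ => h.2.2 y hy⟩

theorem sig_ne_pm {a w : V n} (hc : c ≠ 0) (ha : Q a = c) (hw : Q w = 0) (h : B Q a w ≠ 0) :
    ¬ PM (sig Q c a w) w := fun hpm => by
  have h1 := (hpm.B_zero (Q := Q) w).mpr (by rw [B_self, hw, neg_zero])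
  rw [sig, B_add_l, B_smul_l, B_self, hw, neg_zero, zero_add, mul_eq_zero, neg_eq_zero, mul_eq_zero] at h1
  tauto

variable (H : Hyp D d Q c)

include H

theorem exists_pt {e : G} (he : e ∈ D) (hde : ¬ Commute d e) : ∃ w, IsPoint C e w :=
  exists_point H.hD H.hp H.hw H.hQ H.hn H.hc H.hd C he hde

theorem point_unique {e : G} (he : e ∈ D) (hde : ¬ Commute d e) {w w' : V n} (h : IsPoint C e w)
    (h' : IsPoint C e w') : PM w' w := by
  obtain ⟨x, hx⟩ : ∃ x, x ∈ Sc D d e := exists_common H.hD H.hp H.hw H.hd he hde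
  exact link_unique H.hQ H.hn H.hc C hx.1 (h.link C hx) (h'.link C hx)

omit H in
theorem point_self {e : G} {w : V n} (h : IsPoint C e w) : IsPoint C (d * e * d⁻¹) w := by
  refine ⟨h.1, h.2.1, fun y hy => ?_⟩
  rw [← h.2.2 y hy]
  conv_lhs => rw [show y = d * y * d⁻¹ by rw [hy.2.2.eq, mul_inv_cancel_right], commute_cj_iff]

theorem point_conj {e k : G} {w : V n} (hk : k ∈ Ds D d) (h : IsPoint C e w) :
    IsPoint C (k * e * k⁻¹) (sig Q c (C.v k) w) := by
  have hkv := C.mem k hk
  refine ⟨by rw [Q_sig H.hc hkv, h.1], fun e0 => h.2.1 ?_, fun y hy => ?_⟩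
  · rw [← sig_sig H.hc hkv w, e0]
    simp [sig, B_symm Q _ (0 : V n), B_zero_l]
  · have hy' : k * y * k⁻¹ ∈ Ds D d := Ds_closed_mem H.hD hy hk
    have hkk : ∀ z : G, k * (k * z * k⁻¹) * k⁻¹ = z := fun z => by
      rw [inv_self H.hD.1 hk.1, ← mul_assoc, ← mul_assoc, mul_self H.hD.1 hk.1, one_mul, mul_assoc,
        mul_self H.hD.1 hk.1, mul_one]
    have e1 : Commute (k * e * k⁻¹) y ↔ Commute e (k * y * k⁻¹) := by
      conv_rhs => rw [← hkk e, commute_cj_iff]
    rw [e1, h.2.2 _ hy', (C.conj y hy k hk).B_zero, ← B_sig H.hc hkv (sig Q c (C.v k) (C.v y)) w,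
      sig_sig H.hc hkv]

/-- Two over each point. -/
theorem fibre_point {e e' : G} (he : e ∈ D) (hde : ¬ Commute d e) (he' : e' ∈ D) (hde' : ¬ Commute d e')
    {w w' : V n} (h : IsPoint C e w) (h' : IsPoint C e' w') (hww : PM w' w) :
    e' = e ∨ e' = d * e * d⁻¹ := by
  obtain ⟨x, hx⟩ : ∃ x, x ∈ Sc D d e := exists_common H.hD H.hp H.hw H.hd he hde
  have hx' : x ∈ Sc D d e' := mem_Sc hde' hx.1
    ((h'.2.2 x hx.1).mpr ((hww.B_zero' _).mpr ((h.2.2 x hx.1).mp hx.2.2.2)))
  exact fibre H.hD H.hQ H.hn H.hc H.hd C he hde he' hde' hx hx' (h.link C hx) (h'.link C hx') hww.symm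

/-- Each singular vector is a point. -/
theorem exists_over {w : V n} (hw : Q w = 0) (hw0 : w ≠ 0) : ∃ e ∈ D, ¬ Commute d e ∧ IsPoint C e w := by
  have hQ := H.hQ
  have hc := H.hc
  have hn := H.hn
  obtain ⟨z, hz, hzw⟩ : ∃ z, Q z = c ∧ B Q z w = 0 := by
    obtain ⟨w', hw', hww', -⟩ := exists_partner_vec hQ (r := w) (l := [])
      (by simpa using hw0) hw (by simp) hc
    obtain ⟨z, hz, hzc⟩ := exists_orth_norm hQ (k := 2) (by omega) ![w + w', w - w']
      (fun i => by fin_cases i <;> simp [Q_add Q, Q_sub Q, hw, hw', hww', hc])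
      (fun i j hij => by
        have a1 : B Q (w + w') (w - w') = 0 := by
          rw [B_add_l, B_sub_r, B_sub_r, B_self, B_self, hw, hw', B_symm Q w' w, hww']; ring
        fin_cases i <;> fin_cases j <;> first
          | exact absurd rfl hij | exact a1 | exact (B_symm Q _ _).trans a1) hc
    have z1 : B Q (w + w') z = 0 := hz 0
    have z2 : B Q (w - w') z = 0 := hz 1
    rw [B_add_l] at z1
    rw [B_sub_l] at z2
    refine ⟨z, hzc, ?_⟩
    rw [B_symm]
    linear_combination -z1 - z2 + B Q w z * three_zero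
  obtain ⟨x, hx, kx⟩ := C.surj z hz
  obtain ⟨e, he, hde, hxS, hlink⟩ := exists_far H.hD hQ hn hc H.hd C hx hw hw0 ((kx.B_zero _).mpr hzw)
  obtain ⟨w1, hw1⟩ := exists_pt C H he hde
  exact ⟨e, he, hde, hw1.pm C (link_unique hQ hn hc C hx (hw1.link C hxS) hlink)⟩

omit H in
theorem third_far {e a : G} (hde : ¬ Commute d e) (ha : a ∈ Ds D d) : ¬ Commute d (a * e * a⁻¹) :=
  not_commute_cj ha.2.2.symm hde

omit H in
theorem self_far {e : G} (hde : ¬ Commute d e) : ¬ Commute d (d * e * d⁻¹) :=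
  not_commute_cj (Commute.refl d) hde

include C

/-- Commuting far members come from the third members. -/
theorem commute_far {e e' : G} (he : e ∈ D) (hde : ¬ Commute d e) (he' : e' ∈ D) (hde' : ¬ Commute d e')
    (hne : e' ≠ e) (hee' : Commute e e') :
    ∃ a ∈ Ds D d, ¬ Commute e a ∧ e' = d * (a * e * a⁻¹) * d⁻¹ := by
  obtain ⟨w, hw⟩ := exists_pt C H he hde
  set A : Set G := {a | a ∈ Ds D d ∧ ¬ Commute e a} with hA
  set F : Set G := {f | f ∈ Ds D e ∧ ¬ Commute d f} with hF
  set φ : G → G := fun a => d * (a * e * a⁻¹) * d⁻¹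
  have hpt : ∀ a ∈ A, IsPoint C (φ a) (sig Q c (C.v a) w) := fun a ha =>
    point_self C (point_conj C H ha.1 hw)
  have hB : ∀ a ∈ A, B Q (C.v a) w ≠ 0 := fun a ha h => ha.2 ((hw.2.2 a ha.1).mpr h)
  have hmaps : Set.MapsTo φ A F := by
    intro a ha
    have hfar := self_far (third_far hde ha.1)
    refine ⟨⟨cls_conj H.hD d (cls_conj H.hD a he), fun h => ?_, ?_⟩, hfar⟩
    · refine sig_ne_pm H.hc (C.mem a ha.1) hw.1 (hB a ha) ?_
      exact point_unique C H he hde hw (h ▸ hpt a ha)
    · exact (far_commute H.hD H.hd ha.1.1 he ha.1.2.2 hde fun h => ha.2 h.symm).symm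
  have hinj : Set.InjOn φ A := by
    intro a ha b hb h
    have hpm := point_unique C H (cls_conj H.hD d (cls_conj H.hD a he)) (self_far (third_far hde ha.1))
      (hpt a ha) ((show φ b = φ a from h.symm) ▸ hpt b hb)
    have hc := H.hc
    refine C.inj a ha.1 b hb.1 ?_
    have hka : -(c * B Q (C.v a) w) ≠ 0 := neg_ne_zero.mpr (mul_ne_zero hc (hB a ha))
    have hkb : -(c * B Q (C.v b) w) ≠ 0 := neg_ne_zero.mpr (mul_ne_zero hc (hB b hb))
    rcases hpm with h1 | h1
    · rw [sig, sig, add_right_inj] at h1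
      have h2 := ((PM.rfl' (C.v b)).smul hkb)
      rw [h1] at h2
      exact ((PM.rfl' (C.v a)).smul hka).symm.trans h2
    · exfalso
      have h2 := congrArg (fun v => B Q v w) h1
      simp only [sig, B_neg_l, B_add_l, B_smul_l, B_self, hw.1, neg_zero, zero_add] at h2
      have sa := sq_one _ (hB a ha)
      have sb := sq_one _ (hB b hb)
      exact hc (by linear_combination h2 + c * sa + c * sb + c * three_zero)
  have hcard : F.ncard ≤ A.ncard := by
    obtain ⟨g, hg⟩ := cls_exists_conj H.hD H.hd he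
    have hEF : (Ds D e).ncard = (Ds D d).ncard := by
      rw [← hg, ← cj_Ds H.hD, Set.ncard_image_of_injective _ (cj_injective g)]
    have h1 : F.ncard + (Sc D d e).ncard = (Ds D e).ncard := by
      rw [← Set.ncard_union_eq (Set.disjoint_left.mpr fun f hf hf' => hf.2 hf'.1.2.2)]
      congr 1
      ext f
      refine ⟨fun h => h.elim (fun h => h.1) (fun h => h.2), fun hf => ?_⟩
      by_cases hdf : Commute d f
      · exact Or.inr ⟨⟨hf.1, fun h => hde (h ▸ hf.2.2.symm), hdf⟩, hf⟩
      · exact Or.inl ⟨hf, hdf⟩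
    have h2 : A.ncard + (Sc D d e).ncard = (Ds D d).ncard := by
      rw [← Set.ncard_union_eq (Set.disjoint_left.mpr fun f hf hf' => hf.2 hf'.2.2.2)]
      congr 1
      ext f
      refine ⟨fun h => h.elim (fun h => h.1) (fun h => h.1), fun hf => ?_⟩
      by_cases hef : Commute e f
      · exact Or.inr (mem_Sc hde hf hef)
      · exact Or.inl ⟨hf, hef⟩
    omega
  have himg : φ '' A = F := by
    refine Set.eq_of_subset_of_ncard_le (Set.image_subset_iff.mpr hmaps) ?_
    rw [hinj.ncard_image]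
    exact hcard
  have hmem : e' ∈ F := ⟨⟨he', hne, hee'⟩, hde'⟩
  rw [← himg] at hmem
  obtain ⟨a, ha, h⟩ := hmem
  exact ⟨a, ha.1, ha.2, h.symm⟩

/-- Commuting far members have nonperpendicular points. -/
theorem commute_far_ne {e e' : G} (he : e ∈ D) (hde : ¬ Commute d e) (he' : e' ∈ D) (hde' : ¬ Commute d e')
    (hne : e' ≠ e) (hee' : Commute e e') {w w' : V n} (h : IsPoint C e w) (h' : IsPoint C e' w') :
    B Q w w' ≠ 0 := by
  obtain ⟨a, ha, hea, rfl⟩ := commute_far C H he hde he' hde' hne hee'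
  intro h0
  have hpm := point_unique C H he' hde' h' (point_self C (point_conj C H ha h))
  have hB : B Q (C.v a) w ≠ 0 := fun h1 => hea ((h.2.2 a ha).mpr h1)
  have h1 := (hpm.B_zero' (Q := Q) w).mpr h0
  rw [sig, B_add_r, B_smul_r, B_self, h.1, neg_zero, zero_add, B_symm Q w (C.v a), mul_eq_zero, neg_eq_zero,
    mul_eq_zero] at h1
  have hc := H.hc
  tauto

/-- Nonperpendicular points: one of the two members over the second commutes, the other gives a third. -/
theorem nonorth {e e' : G} (he : e ∈ D) (hde : ¬ Commute d e) (he' : e' ∈ D) (hde' : ¬ Commute d e')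
    {w w' : V n} (h : IsPoint C e w) (h' : IsPoint C e' w') (h0 : B Q w w' ≠ 0) :
    ∃ a ∈ Ds D d, ¬ Commute e a ∧ (e' = a * e * a⁻¹ ∧ ¬ Commute e e' ∨
      e' = d * (a * e * a⁻¹) * d⁻¹ ∧ Commute e e') := by
  have hc := H.hc
  obtain ⟨v, hv, hBv⟩ : ∃ v, PM v w' ∧ B Q w v = -c := by
    rcases ne_zero_cases c _ hc h0 with e0 | e0
    · exact ⟨-w', PM.neg w', by rw [B_neg_r, e0]⟩
    · exact ⟨w', PM.rfl' _, e0⟩
  have hQa : Q (w - v) = c := by
    rw [Q_sub, h.1, hv.Q_eq, h'.1, hBv, add_zero, zero_sub, neg_neg]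
  obtain ⟨a, ha, ka⟩ := C.surj _ hQa
  have hBa : B Q (w - v) w = c := by rw [B_sub_l, B_self, h.1, B_symm, hBv, neg_zero, zero_sub, neg_neg]
  have hsig : sig Q c (C.v a) w = v := by
    rw [sig_pm_left c ka, sig, hBa, sq_one c hc, neg_one_smul]
    abel
  have hea : ¬ Commute e a := fun hc' => hc (by
    have := (ka.B_zero w).mp ((h.2.2 a ha).mp hc')
    rwa [hBa] at this)
  have hae : ¬ Commute a e := fun hc' => hea hc'.symm
  have hf := third_far hde ha
  refine ⟨a, ha, hea, ?_⟩
  rcases fibre_point C H (cls_conj H.hD a he) hf he' hde' (point_conj C H ha h) h'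
    (hsig.symm ▸ hv.symm) with rfl | rfl
  · exact Or.inl ⟨rfl, third_not_commute H.hD ha.1 he hae⟩
  · exact Or.inr ⟨rfl, (far_commute H.hD H.hd ha.1 he ha.2.2 hde hae).symm⟩

/-- Perpendicular distinct points: the third member is far, over the third line. -/
theorem orth {e e' : G} (he : e ∈ D) (hde : ¬ Commute d e) (he' : e' ∈ D) (hde' : ¬ Commute d e')
    {w w' : V n} (h : IsPoint C e w) (h' : IsPoint C e' w') (h0 : B Q w w' = 0) (hne : ¬ PM w' w) :
    ¬ Commute e e' ∧ ¬ Commute d (e * e' * e⁻¹) ∧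
      (IsPoint C (e * e' * e⁻¹) (w + w') ∨ IsPoint C (e * e' * e⁻¹) (w - w')) := by
  have hnc : ¬ Commute e e' := fun hcm => commute_far_ne C H he hde he' hde'
    (fun h1 => hne (point_unique C H he hde h (h1 ▸ h'))) hcm h h' h0
  set s := e * e' * e⁻¹ with hs
  have hsD : s ∈ D := cls_conj H.hD e he'
  have hes : ¬ Commute e s := fun hcm => hnc (by
    have := (commute_cj_iff e).mpr hcm
    rwa [mul_inv_cancel_right, hs, inv_self H.hD.1 he, ← mul_assoc, ← mul_assoc, mul_self H.hD.1 he, one_mul,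
      mul_assoc, mul_self H.hD.1 he, mul_one] at this)
  have he's : ¬ Commute e' s := third_not_commute H.hD he he' hnc
  have hsd : s ≠ d := fun hsd => by
    have h1 : e' = e * d * e⁻¹ := by
      rw [← hsd, hs, inv_self H.hD.1 he, ← mul_assoc, ← mul_assoc, mul_self H.hD.1 he, one_mul,
        mul_assoc, mul_self H.hD.1 he, mul_one]
    rw [third_swap H.hD he H.hd fun hc' => hde hc'.symm] at h1
    exact hne (point_unique C H he' hde' (h1.symm ▸ point_self C h) h')
  have hds : ¬ Commute d s := fun hcm => by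
    have hsE : s ∈ Ds D d := ⟨hsD, hsd, hcm⟩
    have h1 : e' = s * e * s⁻¹ := by
      rw [← third_swap H.hD he hsD hes, hs, inv_self H.hD.1 he, ← mul_assoc, ← mul_assoc,
        mul_self H.hD.1 he, one_mul, mul_assoc, mul_self H.hD.1 he, mul_one]
    have hpm := point_unique C H he' hde' h' (h1 ▸ point_conj C H hsE h)
    have h2 := (hpm.B_zero' (Q := Q) w).mpr h0
    rw [sig, B_add_r, B_smul_r, B_self, h.1, neg_zero, zero_add, B_symm Q w (C.v s), mul_eq_zero, neg_eq_zero,
      mul_eq_zero] at h2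
    have hc := H.hc
    exact hes ((h.2.2 s hsE).mpr (by tauto))
  obtain ⟨w'', hw''⟩ := exists_pt C H hsD hds
  refine ⟨hnc, hds, ?_⟩
  -- perpendicular to both
  have perp : ∀ {f f' : G} {v : V n}, f ∈ D → ¬ Commute d f → f' ∈ D → ¬ Commute d f' → ¬ Commute f f' →
      f * f' * f⁻¹ = s → ¬ Commute f s → IsPoint C f v → B Q v w'' = 0 := by
    intro f f' v hf hdf hf' hdf' hff hfs hnfs hv
    by_contra hb
    obtain ⟨a, ha, hfa, ⟨ha1, -⟩ | ⟨-, ha2⟩⟩ := nonorth C H hf hdf hsD hds hv hw'' hb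
    · refine hdf' ?_
      have h1 : f' = a := by
        rw [← hfs] at ha1
        have h2 := congrArg (fun z => f * z * f⁻¹) ha1
        rw [show f * (f * f' * f⁻¹) * f⁻¹ = f' by
          rw [inv_self H.hD.1 hf, ← mul_assoc, ← mul_assoc, mul_self H.hD.1 hf, one_mul, mul_assoc,
            mul_self H.hD.1 hf, mul_one]] at h2
        rw [h2, third_back H.hD ha.1 hf fun hc' => hfa hc'.symm]
      exact h1 ▸ ha.2.2
    · exact hnfs ha2
  have p1 : B Q w w'' = 0 := perp he hde he' hde' hnc rfl hes h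
  have p2 : B Q w' w'' = 0 := perp he' hde' he hde (fun hc' => hnc hc'.symm)
    (third_swap H.hD he he' hnc).symm he's h'
  have hspan : w'' ∈ Submodule.span K {v : V n | v ∈ [w, w']} := by
    by_contra hout
    obtain ⟨z, hz, hl, hwz⟩ := exists_norm_off H.hQ hout hw''.1 (l := [w, w']) (by simp [p1, p2]) c
    obtain ⟨k, hk, kk⟩ := C.surj z hz
    have k1 : Commute e k := (h.2.2 k hk).mpr ((kk.B_zero _).mpr (by rw [B_symm]; exact hl _ (by simp)))
    have k2 : Commute e' k := (h'.2.2 k hk).mpr ((kk.B_zero _).mpr (by rw [B_symm]; exact hl _ (by simp)))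
    have k3 : Commute s k := (k1.mul_left k2).mul_left k1.inv_left
    exact hwz (by rw [B_symm]; exact (kk.B_zero _).mp ((hw''.2.2 k hk).mp k3))
  rw [show {v : V n | v ∈ [w, w']} = {w, w'} by ext v; simp, Submodule.mem_span_pair] at hspan
  obtain ⟨α, β, hab⟩ := hspan
  have hα : α ≠ 0 := fun h1 => by
    rw [h1, zero_smul, zero_add] at hab
    have hpm : PM w'' w' := by
      rw [← hab]
      exact (PM.rfl' w').smul fun h2 => hw''.2.1 (by rw [← hab, h2, zero_smul])
    rcases fibre_point C H he' hde' hsD hds h' hw'' hpm with h3 | h3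
    · exact he's (h3 ▸ Commute.refl _)
    · rw [hs, third_swap H.hD he he' hnc, third_swap H.hD H.hd he' hde'] at h3
      exact hde (by rw [cj_injective e' h3])
  have hβ : β ≠ 0 := fun h1 => by
    rw [h1, zero_smul, add_zero] at hab
    have hpm : PM w'' w := by
      rw [← hab]
      exact (PM.rfl' w).smul fun h2 => hw''.2.1 (by rw [← hab, h2, zero_smul])
    rcases fibre_point C H he hde hsD hds h hw'' hpm with h3 | h3
    · exact hes (h3 ▸ Commute.refl _)
    · rw [hs, third_swap H.hD H.hd he hde] at h3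
      exact hde' (by rw [cj_injective e h3])
  rcases three_cases 1 α one_ne_zero with h1 | h1 | h1 <;>
    rcases three_cases 1 β one_ne_zero with h2 | h2 | h2 <;>
    first
      | exact absurd h1 hα | exact absurd h2 hβ
      | (rw [h1, h2] at hab
         first
          | exact Or.inl (hw''.pm C (by rw [← hab]; left; module))
          | exact Or.inl (hw''.pm C (by rw [← hab]; right; module))
          | exact Or.inr (hw''.pm C (by rw [← hab]; left; module))
          | exact Or.inr (hw''.pm C (by rw [← hab]; right; module)))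

/-- The thirds with the two members over one point lie over different lines. -/
theorem thirds_differ {e f : G} (he : e ∈ D) (hde : ¬ Commute d e) (hf : f ∈ D) (hdf : ¬ Commute d f)
    (h1 : ¬ Commute d (e * f * e⁻¹)) (h2 : ¬ Commute d (e * (d * f * d⁻¹) * e⁻¹))
    {w₁ : V n} (p1 : IsPoint C (e * f * e⁻¹) w₁) (p2 : IsPoint C (e * (d * f * d⁻¹) * e⁻¹) w₁) : False := by
  have hD := H.hD
  have hd := H.hd
  rcases fibre_point C H (cls_conj hD e hf) h1 (cls_conj hD e (cls_conj hD d hf)) h2 p1 p2 (PM.rfl' _) with h | h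
  · have h' := cj_injective e h
    exact hdf (mul_inv_eq_iff_eq_mul.mp h')
  have hcj : Commute (d * e) f := by
    have h3 : d * f * d⁻¹ = e * (d * (e * f * e⁻¹) * d⁻¹) * e⁻¹ := by
      rw [← h, cj_cj, mul_self hD.1 he, one_mul, inv_one, mul_one]
    rw [cj_cj, cj_cj] at h3
    rw [show e * d * e = d * e * d from (braid hD.1 hd he hde).symm] at h3
    have h4 : d * f * d⁻¹ = d * ((e * d) * f * (e * d)⁻¹) * d⁻¹ := by
      rw [h3]
      group
    have h5 : Commute (e * d) f := mul_inv_eq_iff_eq_mul.mp (cj_injective d h4).symm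
    have h6 : (e * d)⁻¹ = d * e := by rw [mul_inv_rev, inv_self hD.1 he, inv_self hD.1 hd]
    exact h6 ▸ h5.inv_left
  -- an element of order three would invert the rotation
  set h := d * e with hh
  have hdh : d * h * d⁻¹ = h⁻¹ := by
    rw [hh, mul_inv_rev, inv_self hD.1 he, inv_self hD.1 hd, ← mul_assoc, mul_self hD.1 hd, one_mul]
  have hfh : f * h * f⁻¹ = h := by rw [hcj.symm.eq, mul_inv_cancel_right]
  have hu : ∀ z, z = h ∨ z = h⁻¹ → (d * f) * z * (d * f)⁻¹ = z⁻¹ := by
    rintro z (rfl | rfl)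
    · rw [← cj_cj, hfh, hdh]
    · rw [← cj_cj, show f * h⁻¹ * f⁻¹ = h⁻¹ by rw [← conj_inv, hfh],
        show d * h⁻¹ * d⁻¹ = h⁻¹⁻¹ by rw [← conj_inv, hdh]]
  have h3 : (d * f) ^ 3 = 1 := pow_three hD.1 hd hf hdf
  have hinv : h = h⁻¹ := by
    have h4 : (d * f) ^ 3 * h * ((d * f) ^ 3)⁻¹ = h⁻¹ := by
      rw [pow_succ, pow_succ, pow_one, ← cj_cj, hu h (Or.inl rfl), ← cj_cj, hu _ (Or.inr rfl), inv_inv,
        hu h (Or.inl rfl)]
    rwa [h3, one_mul, inv_one, mul_one] at h4
  have h6 : h ^ 2 = 1 := by rw [pow_two]; nth_rewrite 2 [hinv]; exact mul_inv_cancel h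
  have h7 : h ^ 3 = 1 := pow_three hD.1 hd he hde
  rw [pow_succ, h6, one_mul] at h7
  exact hde (by rw [show e = d⁻¹ from eq_inv_of_mul_eq_one_right h7]; exact (Commute.refl d).inv_right)

end CfsgFischer.Refl
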