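/-
The signed point of each far member, and its behaviour under conjugation by the partners.
-/
import Cfsg.Agent.Lib.Fischer.Refl.Far

set_option autoImplicit false
set_option linter.unusedSectionVars false

namespace CfsgFischer.Refl

open Cfsg CfsgThreeTrans QuadraticMap CfsgReflClass

universe u

variable {n : ℕ} {G : Type u} [Group G] [Finite G] {D : Set G} {d : G} {Q : QuadraticForm K (V n)} {c : K}

/-- The chosen far member with its point. -/
structure Base (C : RCoord D d Q c) (e₀ : G) (w₀ : V n) : Prop where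
  hyp : Hyp D d Q c
  he : e₀ ∈ D
  hde : ¬ Commute d e₀
  hpt : IsPoint C e₀ w₀

/-- The sign of the point of a far member fixed by the relation to the chosen one. -/
structure IsVal (C : RCoord D d Q c) (e₀ : G) (w₀ : V n) (e : G) (v : V n) : Prop where
  pt : IsPoint C e v
  same : PM v w₀ → (e = e₀ ↔ v = w₀)
  near : B Q w₀ v ≠ 0 → (Commute e₀ e ↔ B Q w₀ v = c)
  third : B Q w₀ v = 0 → ¬ PM v w₀ → IsPoint C (e₀ * e * e₀⁻¹) (w₀ + v)

open Classical in
/-- The signed point. -/
noncomputable def val (C : RCoord D d Q c) (e₀ : G) (w₀ : V n) (e : G) : V n :=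
  if h : ∃ v, IsVal C e₀ w₀ e v then h.choose else 0

variable {C : RCoord D d Q c} {e₀ : G} {w₀ : V n}

theorem ne_neg_self {v : V n} (h : v ≠ 0) : v ≠ -v := fun e => h (by
  funext i
  exact (by decide : ∀ t : K, t = -t → t = 0) _ (congrFun e i))

theorem nonzero_ne_neg : ∀ c : K, c ≠ 0 → c ≠ -c := by decide

variable (hB : Base C e₀ w₀)
include hB

theorem w0_self : B Q w₀ w₀ = 0 := by rw [B_self, hB.hpt.1, neg_zero]

theorem commute_not_both {e : G} (he : e ∈ D) (hde : ¬ Commute d e) {v : V n} (hv : IsPoint C e v)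
    (h0 : B Q w₀ v ≠ 0) : Commute e₀ (d * e * d⁻¹) ↔ ¬ Commute e₀ e := by
  have H := hB.hyp
  obtain ⟨a, ha, he₀a, hcase⟩ := nonorth C H hB.he hB.hde he hde hB.hpt hv h0
  have hae : ¬ Commute a e₀ := fun h => he₀a h.symm
  rcases hcase with ⟨rfl, hnc⟩ | ⟨rfl, hcm⟩
  · exact iff_of_true (far_commute H.hD H.hd ha.1 hB.he ha.2.2 hB.hde hae).symm hnc
  · refine iff_of_false ?_ (not_not.mpr hcm)
    rw [show d * (d * (a * e₀ * a⁻¹) * d⁻¹) * d⁻¹ = a * e₀ * a⁻¹ by
      rw [cj_cj, mul_self H.hD.1 H.hd, one_mul, inv_one, mul_one]]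
    exact third_not_commute H.hD ha.1 hB.he hae

theorem isVal_exists {e : G} (he : e ∈ D) (hde : ¬ Commute d e) : ∃ v, IsVal C e₀ w₀ e v := by
  classical
  have H := hB.hyp
  obtain ⟨w, hw⟩ := exists_pt C H he hde
  by_cases hpm : PM w w₀
  · have hz : ∀ v, PM v w₀ → B Q w₀ v = 0 := fun v hv => (hv.B_zero' w₀).mpr (w0_self hB)
    by_cases hee : e = e₀
    · exact ⟨w₀, hee ▸ hB.hpt, fun _ => iff_of_true hee rfl, fun h => absurd (w0_self hB) h,
        fun _ h => absurd (PM.rfl' w₀) h⟩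
    · refine ⟨-w₀, hw.pm C ((PM.neg w₀).trans hpm.symm), fun _ => iff_of_false hee ?_,
        fun h => absurd (hz _ (PM.neg w₀)) h, fun _ h => absurd (PM.neg w₀) h⟩
      exact (ne_neg_self hB.hpt.2.1).symm
  by_cases h0 : B Q w₀ w = 0
  · obtain ⟨-, -, h | h⟩ := orth C H hB.he hB.hde he hde hB.hpt hw h0 hpm
    · exact ⟨w, hw, fun h' => absurd h' hpm, fun h' => absurd h0 h', fun _ _ => h⟩
    · refine ⟨-w, hw.pm C (PM.neg w), fun h' => absurd ((PM.neg w).symm.trans h') hpm,
        fun h' => absurd (by rw [B_neg_r, h0, neg_zero]) h', fun _ _ => ?_⟩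
      rwa [← sub_eq_add_neg]
  · obtain ⟨v, hv, hvc⟩ : ∃ v, PM v w ∧ (Commute e₀ e ↔ B Q w₀ v = c) := by
      rcases ne_zero_cases c _ H.hc h0 with e1 | e1 <;> by_cases hcm : Commute e₀ e
      · exact ⟨w, PM.rfl' w, iff_of_true hcm e1⟩
      · exact ⟨-w, PM.neg w, iff_of_false hcm (by rw [B_neg_r, e1]; exact (nonzero_ne_neg c H.hc).symm)⟩
      · exact ⟨-w, PM.neg w, iff_of_true hcm (by rw [B_neg_r, e1, neg_neg])⟩
      · exact ⟨w, PM.rfl' w, iff_of_false hcm (by rw [e1]; exact (nonzero_ne_neg c H.hc).symm)⟩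
    exact ⟨v, hw.pm C hv, fun h' => absurd (hv.symm.trans h') hpm, fun _ => hvc,
      fun h' => absurd ((hv.B_zero' w₀).mp h') h0⟩

theorem isVal_unique {e : G} (he : e ∈ D) (hde : ¬ Commute d e) {v v' : V n} (h : IsVal C e₀ w₀ e v)
    (h' : IsVal C e₀ w₀ e v') : v' = v := by
  have H := hB.hyp
  rcases point_unique C H he hde h.pt h'.pt with hv | hv
  · exact hv
  exfalso
  subst hv
  by_cases hpm : PM v w₀
  · by_cases hee : e = e₀
    · exact ne_neg_self h.pt.2.1 (((h.same hpm).mp hee).trans ((h'.same ((PM.neg v).trans hpm)).mp hee).symm)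
    · rcases hpm with h1 | h1
      · exact hee ((h.same (Or.inl h1)).mpr h1)
      · exact hee ((h'.same ((PM.neg v).trans (Or.inr h1))).mpr (by rw [h1, neg_neg]))
  by_cases h0 : B Q w₀ v = 0
  · have h0' : B Q w₀ (-v) = 0 := by rw [B_neg_r, h0, neg_zero]
    have hpm' : ¬ PM (-v) w₀ := fun h1 => hpm ((PM.neg v).symm.trans h1)
    obtain ⟨-, hs, -⟩ := orth C H hB.he hB.hde he hde hB.hpt h.pt h0 hpm
    rcases point_unique C H (cls_conj H.hD e₀ he) hs (h.third h0 hpm) (h'.third h0' hpm') with h1 | h1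
    · exact ne_neg_self h.pt.2.1 (add_left_cancel h1).symm
    · exact ne_neg_self hB.hpt.2.1 (by linear_combination (norm := module) h1)
  · have h1 := h.near h0
    have h2 := h'.near (by rw [B_neg_r]; exact neg_ne_zero.mpr h0)
    rw [B_neg_r] at h2
    rcases ne_zero_cases c _ H.hc h0 with e1 | e1
    · exact nonzero_ne_neg c H.hc (by
        have := h2.mp (h1.mpr e1)
        rw [e1] at this
        exact this.symm)
    · exact nonzero_ne_neg c H.hc (by
        have := h1.mp (h2.mpr (by rw [e1, neg_neg]))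
        rw [e1] at this
        exact this.symm)

theorem val_spec {e : G} (he : e ∈ D) (hde : ¬ Commute d e) : IsVal C e₀ w₀ e (val C e₀ w₀ e) := by
  have h := isVal_exists hB he hde
  rw [val, dif_pos h]
  exact h.choose_spec

theorem val_eq {e : G} (he : e ∈ D) (hde : ¬ Commute d e) {v : V n} (h : IsVal C e₀ w₀ e v) :
    val C e₀ w₀ e = v := isVal_unique hB he hde h (val_spec hB he hde)

theorem val_base : val C e₀ w₀ e₀ = w₀ :=
  val_eq hB hB.he hB.hde ⟨hB.hpt, fun _ => iff_of_true rfl rfl, fun h => absurd (w0_self hB) h,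
    fun _ h => absurd (PM.rfl' w₀) h⟩

theorem val_neg {e : G} (he : e ∈ D) (hde : ¬ Commute d e) :
    val C e₀ w₀ (d * e * d⁻¹) = -val C e₀ w₀ e := by
  have H := hB.hyp
  have hv := val_spec hB he hde
  set v := val C e₀ w₀ e
  have hfar := self_far (d := d) hde
  have heD : d * e * d⁻¹ ∈ D := cls_conj H.hD d he
  have hne : d * e * d⁻¹ ≠ e := fun h => hde (mul_inv_eq_iff_eq_mul.mp h)
  refine val_eq hB heD hfar ⟨(point_self C hv.pt).pm C (PM.neg v), fun hpm => ?_, fun h0 => ?_, fun h0 hpm => ?_⟩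
  · have hpm' : PM v w₀ := (PM.neg v).symm.trans hpm
    rcases fibre_point C H hB.he hB.hde he hde hB.hpt hv.pt hpm' with h1 | h1
    · have h2 : v = w₀ := (hv.same hpm').mp h1
      exact iff_of_false (fun h3 => hne (h3.trans h1.symm)) fun h3 =>
        ne_neg_self hB.hpt.2.1 (by rw [h2] at h3; exact h3.symm)
    · refine iff_of_true ?_ ?_
      · rw [h1, cj_cj, mul_self H.hD.1 H.hd, one_mul, inv_one, mul_one]
      · rcases hpm' with h2 | h2
        · exact absurd (h1.symm.trans ((hv.same (Or.inl h2)).mpr h2)) fun h3 =>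
            hB.hde (mul_inv_eq_iff_eq_mul.mp h3)
        · rw [h2, neg_neg]
  · have h0' : B Q w₀ v ≠ 0 := fun h1 => h0 (by rw [B_neg_r, h1, neg_zero])
    rw [commute_not_both hB he hde hv.pt h0', hv.near h0', B_neg_r]
    rcases ne_zero_cases c _ H.hc h0' with e1 | e1 <;> rw [e1]
    · exact iff_of_false (not_not.mpr rfl) (nonzero_ne_neg c H.hc).symm
    · exact iff_of_true (nonzero_ne_neg c H.hc).symm (neg_neg c)
  · have h0' : B Q w₀ v = 0 := by rw [B_neg_r, neg_eq_zero] at h0; exact h0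
    have hpm' : ¬ PM v w₀ := fun h1 => hpm ((PM.neg v).trans h1)
    obtain ⟨-, h2, h3 | h3⟩ := orth C H hB.he hB.hde heD hfar hB.hpt
      ((point_self C hv.pt).pm C (PM.neg v)) h0 hpm
    · exact h3
    · rw [sub_neg_eq_add] at h3
      obtain ⟨-, h1, -⟩ := orth C H hB.he hB.hde he hde hB.hpt hv.pt h0' hpm'
      exact (thirds_differ C H hB.he hB.hde he hde h1 h2 (hv.third h0' hpm') h3).elim

/-- Conjugation by a partner acts on the signed points by its reflection. -/
theorem val_conj {a : G} (ha : a ∈ Ds D d) {b : G} (hb : b ∈ D) (hdb : ¬ Commute d b) :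
    val C e₀ w₀ (a * b * a⁻¹) = sig Q c (C.v a) (val C e₀ w₀ b) := by
  have H := hB.hyp
  have hc := H.hc
  have hva := C.mem a ha
  have haa : ∀ z : G, a * (a * z * a⁻¹) * a⁻¹ = z := fun z => by
    rw [cj_cj, mul_self H.hD.1 ha.1, one_mul, inv_one, mul_one]
  have hdd : ∀ z : G, d * (d * z * d⁻¹) * d⁻¹ = z := fun z => by
    rw [cj_cj, mul_self H.hD.1 H.hd, one_mul, inv_one, mul_one]
  let T : G → Prop := fun b => val C e₀ w₀ (a * b * a⁻¹) = sig Q c (C.v a) (val C e₀ w₀ b)
  -- the statement passes to the images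
  have Tconj : ∀ b, T b → T (a * b * a⁻¹) := fun b h => by
    show val C e₀ w₀ (a * (a * b * a⁻¹) * a⁻¹) = _
    rw [haa, h, sig_sig hc hva]
  have Tneg : ∀ b ∈ D, ¬ Commute d b → T b → T (d * b * d⁻¹) := fun b hb hdb h => by
    show val C e₀ w₀ (a * (d * b * d⁻¹) * a⁻¹) = _
    rw [cj_cj, ← ha.2.2.eq, ← cj_cj, val_neg hB (cls_conj H.hD a hb) (third_far hdb ha), h,
      val_neg hB hb hdb, sig_neg]
  show T b
  by_cases hae₀ : Commute a e₀
  · have hv := val_spec hB hb hdb
    set v := val C e₀ w₀ b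
    have hw : sig Q c (C.v a) w₀ = w₀ := sig_fix ((hB.hpt.2.2 a ha).mp hae₀.symm)
    have hfix : a * e₀ * a⁻¹ = e₀ := by rw [hae₀.eq, mul_inv_cancel_right]
    have hB0 : B Q w₀ (sig Q c (C.v a) v) = B Q w₀ v := by
      conv_lhs => rw [← hw]
      rw [B_sig hc hva]
    have hpm : PM (sig Q c (C.v a) v) w₀ → PM v w₀ := fun h => by
      have h1 := h.sig (Q := Q) c (C.v a)
      rwa [sig_sig hc hva, hw] at h1
    refine val_eq hB (cls_conj H.hD a hb) (third_far hdb ha) ⟨point_conj C H ha hv.pt, fun h => ?_, fun h0 => ?_,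
      fun h0 h => ?_⟩
    · rw [show a * b * a⁻¹ = e₀ ↔ b = e₀ from ⟨fun h1 => cj_injective a (h1.trans hfix.symm), fun h1 => h1 ▸ hfix⟩,
        hv.same (hpm h)]
      exact ⟨fun h1 => (congrArg (sig Q c (C.v a)) h1).trans hw, fun h1 => by rw [← sig_sig hc hva v, h1, hw]⟩
    · rw [hB0] at h0 ⊢
      rw [← hv.near h0]
      nth_rewrite 1 [← hfix]
      exact commute_cj_iff a
    · have h1 := point_conj C H ha (hv.third (hB0 ▸ h0) fun h2 => h (by
        have h3 := h2.sig (Q := Q) c (C.v a)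
        rwa [hw] at h3))
      rw [sig_add, hw] at h1
      have e1 : a * (e₀ * b * e₀⁻¹) * a⁻¹ = e₀ * (a * b * a⁻¹) * e₀⁻¹ := by
        rw [cj_cj, cj_cj, hae₀.eq]
      rwa [e1] at h1
  have hβ0 : B Q (C.v a) w₀ ≠ 0 := fun h => hae₀ ((hB.hpt.2.2 a ha).mpr h).symm
  -- the chosen one
  have hT0 : T e₀ := by
    show val C e₀ w₀ (a * e₀ * a⁻¹) = _
    rw [val_base hB]
    have hnc : ¬ Commute e₀ (a * e₀ * a⁻¹) := third_not_commute H.hD ha.1 hB.he hae₀
    have hnpm : ¬ PM (sig Q c (C.v a) w₀) w₀ := sig_ne_pm hc hva hB.hpt.1 hβ0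
    have hB1 : B Q w₀ (sig Q c (C.v a) w₀) = -c := by
      rw [sig, B_add_r, B_smul_r, w0_self hB, B_symm Q w₀ (C.v a)]
      linear_combination (-c) * sq_one _ hβ0
    exact val_eq hB (cls_conj H.hD a hB.he) (third_far hB.hde ha)
      ⟨point_conj C H ha hB.hpt, fun h => absurd h hnpm,
        fun _ => iff_of_false hnc (by rw [hB1]; exact (nonzero_ne_neg c hc).symm),
        fun h => absurd h (by rw [hB1]; exact neg_ne_zero.mpr hc)⟩
  have hT0' : T (d * e₀ * d⁻¹) := Tneg e₀ hB.he hB.hde hT0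
  -- those commuting with the chosen one
  have hfirst : ∀ b ∈ D, ¬ Commute d b → B Q w₀ (val C e₀ w₀ b) = c → T b := by
    intro b hb hdb hb0
    have hv := val_spec hB hb hdb
    by_cases hab : Commute a b
    · show val C e₀ w₀ (a * b * a⁻¹) = _
      rw [hab.eq, mul_inv_cancel_right, sig_fix ((hv.pt.2.2 a ha).mp hab.symm)]
    set v := val C e₀ w₀ b with hvdef
    have hβ : B Q (C.v a) v ≠ 0 := fun h => hab ((hv.pt.2.2 a ha).mpr h).symm
    have hcm : Commute e₀ b := (hv.near (by rw [hb0]; exact hc)).mpr hb0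
    have hb1 := cls_conj H.hD a hb
    have hd1 := third_far hdb ha
    have hpt1 := point_conj C H ha hv.pt
    have hnc1 : ¬ Commute e₀ (a * b * a⁻¹) := fun h => by
      have h1 : Commute (a * e₀ * a⁻¹) b := by
        have h2 := (commute_cj_iff a).mpr h
        rwa [haa] at h2
      have h3 : Commute (e₀ * (a * e₀ * a⁻¹) * e₀⁻¹) b := (hcm.mul_left h1).mul_left hcm.inv_left
      rw [third_back H.hD ha.1 hB.he hae₀] at h3
      exact hab h3
    have hB1 : B Q w₀ (sig Q c (C.v a) v) = c + -(c * B Q (C.v a) v) * B Q (C.v a) w₀ := by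
      rw [sig, B_add_r, B_smul_r, hb0, B_symm Q w₀ (C.v a)]
    rcases ne_zero_cases 1 _ one_ne_zero (mul_ne_zero hβ hβ0) with hprod | hprod
    · have hB10 : B Q w₀ (sig Q c (C.v a) v) = 0 := by
        rw [hB1]; linear_combination (-c) * hprod
      by_cases hpm : PM (sig Q c (C.v a) v) w₀
      · rcases fibre_point C H hB.he hB.hde hb1 hd1 hB.hpt hpt1 hpm with h | h
        · have := Tconj _ hT0
          rwa [show a * e₀ * a⁻¹ = b by rw [← h, haa]] at this
        · have := Tconj _ hT0'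
          rwa [show a * (d * e₀ * d⁻¹) * a⁻¹ = b by rw [← h, haa]] at this
      obtain ⟨-, hs, hor⟩ := orth C H hB.he hB.hde hb1 hd1 hB.hpt hpt1 hB10 hpm
      set s := e₀ * (a * b * a⁻¹) * e₀⁻¹ with hsdef
      have hsa : Commute s a := by
        have h1 : Commute (a * e₀ * a⁻¹) (a * b * a⁻¹) := (commute_cj_iff a).mpr hcm
        rw [third_swap H.hD ha.1 hB.he hae₀] at h1
        have h2 := (commute_cj_iff e₀).mpr h1
        rw [cj_cj, mul_self H.hD.1 hB.he, one_mul, inv_one, mul_one] at h2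
        exact h2.symm
      refine val_eq hB hb1 hd1 ⟨hpt1, fun h => absurd h hpm, fun h => absurd hB10 h, fun _ _ => ?_⟩
      rcases hor with h | h
      · exact h
      · exfalso
        have h1 := (h.2.2 a ha).mp hsa
        rw [B_sub_r, sig, B_add_r, B_smul_r, B_self, hva] at h1
        have h4 : B Q (C.v a) w₀ = B Q (C.v a) v := by
          linear_combination (-(B Q (C.v a) w₀)) * sq_one _ hβ + B Q (C.v a) v * hprod
        rw [h4, show -(c * B Q (C.v a) v) * -c = B Q (C.v a) v from by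
          linear_combination B Q (C.v a) v * sq_one c hc] at h1
        exact hβ (by linear_combination -h1)
    · have hB1' : B Q w₀ (sig Q c (C.v a) v) = -c := by
        rw [hB1]; linear_combination (-c) * hprod + c * three_zero
      refine val_eq hB hb1 hd1 ⟨hpt1, fun h => absurd ((h.B_zero' (Q := Q) w₀).mpr (w0_self hB))
        (by rw [hB1']; exact neg_ne_zero.mpr hc), fun _ => iff_of_false hnc1 (by
          rw [hB1']; exact (nonzero_ne_neg c hc).symm), fun h => absurd h (by rw [hB1']; exact neg_ne_zero.mpr hc)⟩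
  have hsecond : ∀ b ∈ D, ¬ Commute d b → B Q w₀ (val C e₀ w₀ b) ≠ 0 → T b := by
    intro b hb hdb h0
    rcases ne_zero_cases c _ hc h0 with h | h
    · exact hfirst b hb hdb h
    · have := Tneg _ (cls_conj H.hD d hb) (self_far hdb) (hfirst _ (cls_conj H.hD d hb) (self_far hdb)
        (by rw [val_neg hB hb hdb, B_neg_r, h, neg_neg]))
      rwa [hdd] at this
  by_cases h0 : B Q w₀ (val C e₀ w₀ b) = 0
  swap
  · exact hsecond b hb hdb h0
  have hv := val_spec hB hb hdb
  by_cases hpm : PM (val C e₀ w₀ b) w₀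
  · rcases fibre_point C H hB.he hB.hde hb hdb hB.hpt hv.pt hpm with rfl | rfl
    exacts [hT0, hT0']
  by_cases hab : Commute a b
  · show val C e₀ w₀ (a * b * a⁻¹) = _
    rw [hab.eq, mul_inv_cancel_right, sig_fix ((hv.pt.2.2 a ha).mp hab.symm)]
  have hβ : B Q (C.v a) (val C e₀ w₀ b) ≠ 0 := fun h => hab ((hv.pt.2.2 a ha).mpr h).symm
  have hb1 := cls_conj H.hD a hb
  have hd1 := third_far hdb ha
  have hpm1 := point_unique C H hb1 hd1 (point_conj C H ha hv.pt) (val_spec hB hb1 hd1).pt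
  have h1 := Tconj _ (hsecond _ hb1 hd1 fun h => by
    have h2 := (hpm1.B_zero' (Q := Q) w₀).mp h
    rw [sig, B_add_r, B_smul_r, h0, zero_add, B_symm Q w₀ (C.v a)] at h2
    simp [mul_eq_zero, hc, hβ, hβ0] at h2)
  rwa [haa] at h1

end CfsgFischer.Refl
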