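/-
The class is carried to the lines of norm `c` in one more dimension, compatibly with conjugation.
-/
import Cfsg.Agent.Lib.Fischer.Refl.Values
import Cfsg.Agent.Lib.Fischer.Refl.Model
import Cfsg.Agent.Lib.Fischer.StepSym
import Cfsg.Agent.Lib.Fischer.Iso

set_option autoImplicit false
set_option linter.unusedSectionVars false

namespace CfsgFischer.Refl

open Cfsg CfsgThreeTrans QuadraticMap CfsgReflClass

universe u

variable {n : ℕ} {G : Type u} [Group G] [Finite G] {D : Set G} {d : G} {Q : QuadraticForm K (V n)} {c : K}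

open Classical in
/-- The line of a member. -/
noncomputable def tab (C : RCoord D d Q c) (e₀ : G) (w₀ : V n) (b : G) : V (n + 1) :=
  if b = d then Fin.cons 1 0 else if Commute d b then Fin.cons 0 (C.v b) else Fin.cons 1 (val C e₀ w₀ b)

/-- Conjugation by `a` is the reflection in the line of `a`. -/
def Eqv (C : RCoord D d Q c) (e₀ : G) (w₀ : V n) (a : G) : Prop :=
  ∀ b ∈ D, PM (tab C e₀ w₀ (a * b * a⁻¹)) (sig (ext Q c) c (tab C e₀ w₀ a) (tab C e₀ w₀ b))

variable {C : RCoord D d Q c} {e₀ : G} {w₀ : V n}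

theorem tab_d : tab C e₀ w₀ d = Fin.cons 1 0 := by rw [tab, if_pos rfl]

theorem tab_mem {b : G} (hb : b ∈ Ds D d) : tab C e₀ w₀ b = Fin.cons 0 (C.v b) := by
  rw [tab, if_neg hb.2.1, if_pos hb.2.2]

theorem tab_far {b : G} (hdb : ¬ Commute d b) : tab C e₀ w₀ b = Fin.cons 1 (val C e₀ w₀ b) := by
  rw [tab, if_neg fun h : b = d => hdb (by rw [h]), if_neg hdb]

theorem three_kinds {b : G} (hb : b ∈ D) : b = d ∨ b ∈ Ds D d ∨ ¬ Commute d b := by
  by_cases h1 : b = d
  · exact Or.inl h1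
  by_cases h2 : Commute d b
  · exact Or.inr (Or.inl ⟨hb, h1, h2⟩)
  · exact Or.inr (Or.inr h2)

theorem sig_top (hc : c ≠ 0) (t : K) (x : V n) :
    sig (ext Q c) c (Fin.cons 1 0) (Fin.cons t x) = Fin.cons (-t) x := by
  rw [sig_cons, B_zero_l, smul_zero, add_zero x, cons_inj']
  exact ⟨by linear_combination t * sq_one c hc + t * three_zero, rfl⟩

theorem sig_mem (a : V n) (t : K) (x : V n) :
    sig (ext Q c) c (Fin.cons 0 a) (Fin.cons t x) = Fin.cons t (sig Q c a x) := by
  rw [sig_cons, cons_inj']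
  exact ⟨by ring, by simp [sig]⟩

theorem sig_one {a x : V n} {t k : K} (hk : -(c * (-(c * t) + B Q a x)) = k) :
    sig (ext Q c) c (Fin.cons 1 a) (Fin.cons t x) = Fin.cons (t + k) (x + k • a) := by
  rw [sig_cons, one_mul, mul_one, hk]

variable (hB : Base C e₀ w₀)
include hB

theorem tab_norm {b : G} (hb : b ∈ D) : ext Q c (tab C e₀ w₀ b) = c := by
  rcases three_kinds (D := D) (d := d) hb with rfl | h | h
  · rw [tab_d, ext_cons, QuadraticMap.map_zero, mul_one, mul_one, add_zero]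
  · rw [tab_mem h, ext_cons, C.mem b h, mul_zero, mul_zero, zero_add]
  · rw [tab_far h, ext_cons, (val_spec hB hb h).pt.1, mul_one, mul_one, add_zero]

theorem tab_inj {a b : G} (ha : a ∈ D) (hb : b ∈ D) (h : PM (tab C e₀ w₀ a) (tab C e₀ w₀ b)) : a = b := by
  have H := hB.hyp
  have key : ∀ {a : G}, a ∈ Ds D d → (t : K) → t ≠ 0 → (x : V n) →
      ¬ PM (tab C e₀ w₀ a) (Fin.cons t x) := by
    intro a ha t ht x h
    rw [tab_mem ha] at h
    rcases pm_cons h with ⟨h1, -⟩ | ⟨h1, -⟩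
    · exact ht h1.symm
    · exact ht (neg_eq_zero.mp h1.symm)
  have far : ∀ {a : G}, a ∈ D → ¬ Commute d a → val C e₀ w₀ a ≠ 0 := fun ha hda => (val_spec hB ha hda).pt.2.1
  rcases three_kinds (D := D) (d := d) ha with ha' | ha' | ha' <;>
    rcases three_kinds (D := D) (d := d) hb with hb' | hb' | hb'
  · exact ha'.trans hb'.symm
  · exact (key hb' 1 one_ne_zero 0 (by rw [ha', tab_d] at h; exact h.symm)).elim
  · rw [ha', tab_d, tab_far hb'] at h
    rcases pm_cons h with ⟨-, h2⟩ | ⟨h1, -⟩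
    · exact absurd h2.symm (far hb hb')
    · exact absurd h1 (by decide)
  · exact (key ha' 1 one_ne_zero 0 (by rw [hb', tab_d] at h; exact h)).elim
  · rw [tab_mem ha', tab_mem hb'] at h
    exact C.inj a ha' b hb' ((pm_cons h).elim (fun h => Or.inl h.2) fun h => Or.inr h.2)
  · exact (key ha' 1 one_ne_zero _ (by rw [tab_far hb'] at h; exact h)).elim
  · rw [hb', tab_d, tab_far ha'] at h
    rcases pm_cons h with ⟨-, h2⟩ | ⟨h1, -⟩
    · exact absurd h2 (far ha ha')
    · exact absurd h1 (by decide)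
  · exact (key hb' 1 one_ne_zero _ (by rw [tab_far ha'] at h; exact h.symm)).elim
  · rw [tab_far ha', tab_far hb'] at h
    rcases pm_cons h with ⟨-, h2⟩ | ⟨h1, -⟩
    · rcases fibre_point C H ha ha' hb hb' (val_spec hB ha ha').pt (val_spec hB hb hb').pt (Or.inl h2.symm)
        with h3 | h3
      · exact h3.symm
      · exact absurd (h2.trans (by rw [h3, val_neg hB ha ha'])) (ne_neg_self (far ha ha'))
    · exact absurd h1 (by decide)

theorem tab_surj {z : V (n + 1)} (hz : ext Q c z = c) : ∃ b ∈ D, PM (tab C e₀ w₀ b) z := by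
  have H := hB.hyp
  rw [← Fin.cons_self_tail z, ext_cons] at hz
  rw [← Fin.cons_self_tail z]
  generalize z 0 = t, Fin.tail z = a at hz ⊢
  have hone : ∀ {a : V n}, Q a = 0 → ∃ b ∈ D, PM (tab C e₀ w₀ b) (Fin.cons 1 a) := by
    intro a ha
    by_cases h0 : a = 0
    · exact ⟨d, H.hd, by rw [tab_d, h0]; exact PM.rfl' _⟩
    obtain ⟨e, he, hde, hpt⟩ := exists_over C H ha h0
    rcases point_unique C H he hde hpt (val_spec hB he hde).pt with h | h
    · exact ⟨e, he, by rw [tab_far hde, h]; exact PM.rfl' _⟩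
    · refine ⟨d * e * d⁻¹, cls_conj H.hD d he, ?_⟩
      rw [tab_far (self_far hde), val_neg hB he hde, h, neg_neg]
      exact PM.rfl' _
  rcases three_cases 1 t one_ne_zero with rfl | rfl | rfl
  · rw [mul_zero, mul_zero, zero_add] at hz
    obtain ⟨x, hx, k⟩ := C.surj a hz
    refine ⟨x, hx.1, ?_⟩
    rw [tab_mem hx]
    rcases k with h | h <;> rw [h]
    · exact PM.rfl' _
    · exact Or.inr (by rw [cons_neg, neg_zero])
  · rw [mul_one, mul_one, add_eq_left] at hz
    exact hone hz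
  · rw [neg_mul_neg, mul_one, mul_one, add_eq_left] at hz
    obtain ⟨b, hb, k⟩ := hone (a := -a) (by rw [Q_neg, hz])
    refine ⟨b, hb, k.trans (Or.inr ?_)⟩
    rw [cons_neg, neg_neg]

theorem eqv_d : Eqv C e₀ w₀ d := by
  intro b hb
  have H := hB.hyp
  rw [tab_d]
  rcases three_kinds (D := D) (d := d) hb with h | h | h
  · rw [h, mul_inv_cancel_right, tab_d, sig_top H.hc]
    exact Or.inr (by rw [cons_neg, neg_neg, neg_zero])
  · rw [h.2.2.eq, mul_inv_cancel_right, tab_mem h, sig_top H.hc, neg_zero]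
    exact PM.rfl' _
  · rw [tab_far (self_far h), tab_far h, val_neg hB hb h, sig_top H.hc]
    exact Or.inr (by rw [cons_neg, neg_neg])

theorem eqv_mem {a : G} (ha : a ∈ Ds D d) : Eqv C e₀ w₀ a := by
  intro b hb
  have H := hB.hyp
  rw [tab_mem ha]
  rcases three_kinds (D := D) (d := d) hb with h | h | h
  · rw [h, show a * d * a⁻¹ = d by rw [← ha.2.2.eq, mul_inv_cancel_right], tab_d, sig_mem,
      sig_fix (by rw [B_symm, B_zero_l])]
    exact PM.rfl' _
  · rw [tab_mem (Ds_closed_mem H.hD h ha), tab_mem h, sig_mem]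
    rcases C.conj b h a ha with e | e <;> rw [e]
    · exact PM.rfl' _
    · exact Or.inr (by rw [cons_neg, neg_zero])
  · rw [tab_far (third_far h ha), tab_far h, sig_mem, val_conj hB ha hb h]
    exact PM.rfl' _

theorem eqv_back {a b : G} (ha : a ∈ D)
    (h : PM (tab C e₀ w₀ (a * b * a⁻¹)) (sig (ext Q c) c (tab C e₀ w₀ a) (tab C e₀ w₀ b))) :
    PM (tab C e₀ w₀ (a * (a * b * a⁻¹) * a⁻¹))
      (sig (ext Q c) c (tab C e₀ w₀ a) (tab C e₀ w₀ (a * b * a⁻¹))) := by
  have h1 := h.sig (Q := ext Q c) c (tab C e₀ w₀ a)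
  rw [sig_sig hB.hyp.hc (tab_norm hB ha)] at h1
  rw [cj_cj, mul_self hB.hyp.hD.1 ha, one_mul, inv_one, mul_one]
  exact h1.symm

theorem eqv_base : Eqv C e₀ w₀ e₀ := by
  have H := hB.hyp
  have hc := H.hc
  have hde := hB.hde
  have he := hB.he
  have T_E : ∀ a ∈ Ds D d, PM (tab C e₀ w₀ (e₀ * a * e₀⁻¹)) (sig (ext Q c) c (tab C e₀ w₀ e₀) (tab C e₀ w₀ a)) := by
    intro a ha
    rw [tab_far hde, val_base hB, tab_mem ha, sig_one (k := -(c * B Q w₀ (C.v a))) (by ring), zero_add]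
    by_cases hcm : Commute e₀ a
    · rw [hcm.eq, mul_inv_cancel_right, tab_mem ha, B_symm, (hB.hpt.2.2 a ha).mp hcm, mul_zero, neg_zero,
        zero_smul, add_zero]
      exact PM.rfl' _
    · have hβ : B Q (C.v a) w₀ ≠ 0 := fun h => hcm ((hB.hpt.2.2 a ha).mpr h)
      rw [← third_swap H.hD ha.1 he fun h => hcm h.symm, tab_far (third_far hde ha), val_conj hB ha he hde,
        val_base hB, B_symm Q w₀ (C.v a)]
      refine PM.trans (Or.inl ?_) ((PM.rfl' _).smul (s := -(c * B Q (C.v a) w₀))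
        (neg_ne_zero.mpr (mul_ne_zero hc hβ)))
      have hkk : -(c * B Q (C.v a) w₀) * -(c * B Q (C.v a) w₀) = 1 := sq_one _ (neg_ne_zero.mpr (mul_ne_zero hc hβ))
      rw [cons_smul, smul_add, smul_smul, hkk, one_smul, sig, cons_inj']
      exact ⟨rfl, add_comm _ _⟩
  have T_d : PM (tab C e₀ w₀ (e₀ * d * e₀⁻¹)) (sig (ext Q c) c (tab C e₀ w₀ e₀) (tab C e₀ w₀ d)) := by
    rw [← third_swap H.hD H.hd he hde, tab_far (self_far hde), val_neg hB he hde, tab_far hde, val_base hB,
      tab_d, sig_one (k := 1) (by rw [B_symm Q, B_zero_l]; linear_combination sq_one c hc)]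
    refine Or.inr ?_
    rw [cons_neg, cons_inj']
    exact ⟨by decide, by rw [one_smul, zero_add]⟩
  intro b hb
  rcases three_kinds (D := D) (d := d) hb with rfl | h | h
  · exact T_d
  · exact T_E b h
  have hv := val_spec hB hb h
  by_cases hpm : PM (val C e₀ w₀ b) w₀
  · rcases fibre_point C H he hde hb h hB.hpt hv.pt hpm with rfl | rfl
    · rw [mul_inv_cancel_right]
      refine Or.inr ?_
      have hs : ∀ u : V (n + 1), ext Q c u = c → sig (ext Q c) c u u = -u := fun u hu => by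
        rw [sig, B_self, hu, mul_neg, neg_neg, sq_one c hc, one_smul]
        funext i
        simp only [Pi.add_apply, Pi.neg_apply]
        linear_combination (u i) * three_zero
      rw [hs _ (tab_norm hB hb), neg_neg]
    · have := eqv_back hB he T_d
      rwa [← third_swap H.hD H.hd he hde] at this
  by_cases h0 : B Q w₀ (val C e₀ w₀ b) = 0
  · obtain ⟨hnc, hs, -⟩ := orth C H he hde hb h hB.hpt hv.pt h0 hpm
    have hs3 : IsPoint C (e₀ * b * e₀⁻¹) (-(w₀ + val C e₀ w₀ b)) :=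
      (hv.third h0 hpm).pm C (PM.neg _)
    have hsv : val C e₀ w₀ (e₀ * b * e₀⁻¹) = -(w₀ + val C e₀ w₀ b) := by
      refine val_eq hB (cls_conj H.hD e₀ hb) hs ⟨hs3, fun h1 => ?_, fun h1 => ?_, fun _ _ => ?_⟩
      · exfalso
        have h2 : PM (w₀ + val C e₀ w₀ b) w₀ := (PM.neg _).symm.trans h1
        rcases h2 with h2 | h2
        · exact hv.pt.2.1 (add_eq_left.mp h2)
        · refine hpm (Or.inl ?_)
          have h3 : w₀ + w₀ + w₀ = 0 := by
            ext i
            simp only [Pi.add_apply, Pi.zero_apply]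
            linear_combination (w₀ i) * three_zero
          linear_combination (norm := module) h2 - h3
      · exact absurd (by rw [B_neg_r, B_add_r, w0_self hB, h0, add_zero, neg_zero]) h1
      · rw [cj_cj, mul_self H.hD.1 he, one_mul, inv_one, mul_one,
          show w₀ + -(w₀ + val C e₀ w₀ b) = -val C e₀ w₀ b by abel]
        exact hv.pt.pm C (PM.neg _)
    rw [tab_far hs, tab_far hde, tab_far h, hsv, val_base hB,
      sig_one (k := 1) (by rw [h0]; linear_combination sq_one c hc)]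
    refine Or.inr ?_
    rw [cons_neg, cons_inj']
    exact ⟨by decide, by rw [one_smul]; abel⟩
  by_cases hcm : Commute e₀ b
  · rw [hcm.eq, mul_inv_cancel_right, tab_far hde, tab_far h, val_base hB,
      sig_one (k := 0) (by rw [(hv.near h0).mp hcm]; ring), zero_smul, add_zero, add_zero]
    exact PM.rfl' _
  · obtain ⟨a, ha, hae, ⟨rfl, -⟩ | ⟨-, h2⟩⟩ := nonorth C H he hde hb h hB.hpt hv.pt h0
    · have := eqv_back hB he (T_E a ha)
      rwa [← third_swap H.hD ha.1 he fun h1 => hae h1.symm] at this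
    · exact absurd h2 hcm

theorem eqv_all : ∀ a ∈ D, Eqv C e₀ w₀ a := by
  have H := hB.hyp
  have hc := H.hc
  let M : Submonoid G :=
    { carrier := {g | ∃ L : V (n + 1) →ₗ[K] V (n + 1), (∀ x y, B (ext Q c) (L x) (L y) = B (ext Q c) x y) ∧
        ∀ b ∈ D, PM (tab C e₀ w₀ (g * b * g⁻¹)) (L (tab C e₀ w₀ b))}
      one_mem' := ⟨LinearMap.id, fun x y => rfl, fun b _ => by
        rw [one_mul, inv_one, mul_one]; exact PM.rfl' _⟩
      mul_mem' := by
        rintro g g' ⟨L, hL, hLg⟩ ⟨L', hL', hLg'⟩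
        refine ⟨L.comp L', fun x y => (hL _ _).trans (hL' x y), fun b hb => ?_⟩
        rw [← cj_cj]
        exact (hLg _ (cls_conj H.hD g' hb)).trans ((hLg' b hb).map L) }
  let Sub : Subgroup G :=
    { M with
      inv_mem' := fun {g} hg => by
        show g⁻¹ ∈ M
        rw [inv_eq_of_mul_eq_one_right (show g * g ^ (orderOf g - 1) = 1 by
          rw [← pow_succ', Nat.sub_add_cancel (orderOf_pos g), pow_orderOf_eq_one])]
        exact pow_mem hg _ }
  have hgen : ∀ a ∈ D, Eqv C e₀ w₀ a → a ∈ Sub := fun a ha h =>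
    ⟨sigL (ext Q c) c (tab C e₀ w₀ a), fun x y => B_sig hc (tab_norm hB ha) x y, h⟩
  have htop : Sub = ⊤ := eq_top_of_far H.hD H.hp H.hw H.hd hB.he hB.hde Sub (hgen d H.hd (eqv_d hB))
    (hgen e₀ hB.he (eqv_base hB)) fun a ha => hgen a ha.1 (eqv_mem hB ha)
  intro a ha b hb
  obtain ⟨g, rfl⟩ := cls_exists_conj H.hD H.hd ha
  obtain ⟨L, hL, hLg⟩ : g ∈ Sub := htop ▸ Subgroup.mem_top g
  have hb' : g⁻¹ * b * g⁻¹⁻¹ ∈ D := cls_conj H.hD g⁻¹ hb
  set b' := g⁻¹ * b * g⁻¹⁻¹
  have hbb : b = g * b' * g⁻¹ := (cj_inv g b).symm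
  have hd' := hLg d H.hd
  have e1 : g * d * g⁻¹ * b * (g * d * g⁻¹)⁻¹ = g * (d * b' * d⁻¹) * g⁻¹ := by rw [hbb]; group
  rw [e1]
  refine (hLg _ (cls_conj H.hD d hb')).trans (((eqv_d hB b' hb').map L).trans ?_)
  rw [map_sig hL, ← sig_pm_left c hd']
  refine PM.sig ?_ c _
  rw [hbb]
  exact (hLg b' hb').symm

/-- **The recognition.** -/
theorem isReflClass (hZ : Subgroup.center G = ⊥) :
    IsReflClass G D (n + 1) (-Cfsg.polarGramDet (⇑Q) * c) c := by
  classical
  have H := hB.hyp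
  have hc := H.hc
  have hQ' := ext_nondegenerate (c := c) H.hQ hc
  have hcls := three_class_three hQ' (show 5 ≤ n + 1 by have := H.hn; omega) hc
  have hpick : ∀ b ∈ D, ∃ g ∈ RSet (ext Q c) c, IsRefl (ext Q c) g.1 (tab C e₀ w₀ b) := fun b hb =>
    rset_of_vec hc (tab_norm hB hb)
  choose! F hFm hFr using hpick
  have hbij : Set.BijOn F D (RSet (ext Q c) c) := by
    refine ⟨hFm, fun a ha b hb h => ?_, fun g hg => ?_⟩
    · exact tab_inj hB ha hb (pm_of_refl hc (tab_norm hB hb) (tab_norm hB ha) (hFr b hb) (h ▸ hFr a ha))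
    · obtain ⟨v, hv, hgv⟩ := rset_vec hc hg
      obtain ⟨b, hb, k⟩ := tab_surj hB hv
      exact ⟨b, hb, Subtype.ext ((hFr b hb).unique (refl_of_pm hgv k))⟩
  have hconj : ∀ a ∈ D, ∀ b ∈ D, F (a * b * a) = F a * F b * F a := by
    intro a ha b hb
    have hab : a * b * a ∈ D := by
      have := cls_conj H.hD a hb
      rwa [inv_self H.hD.1 ha] at this
    have hpm := eqv_all hB a ha b hb
    rw [inv_self H.hD.1 ha] at hpm
    have h1 := (hFr b hb).conj (g := (F a).1)
    rw [refl_eq_sig hc (tab_norm hB ha) (hFr a ha), inv_eq_of_mul_eq_one_right (hFr a ha).sq] at h1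
    exact Subtype.ext ((hFr _ hab).unique (refl_of_pm h1 hpm))
  obtain ⟨e, he⟩ := iso_quot_of_bij H.hD hZ hcls F hbij hconj
  refine ⟨ext Q c, hQ', ?_, hc, e, he⟩
  rw [ext_det]
  ring

end CfsgFischer.Refl
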